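import Cfsg.Agent.H275.Heis
import Cfsg.Agent.H802.FusGroup
import Cfsg.Agent.H781.Transport

/-!
# Fusion systems over extraspecial groups of order `p^3` and exponent `p` (S5207): definitions (helper773)

`W F D` is the image of `Aut_F(S)` in `GL₂(p)`, `LL F D` the set of lines `l` of `S/Z(S)` such that some automorphism
in `Aut_F(V_l)` moves `Z(S)`, where `V_l = lineOf D l` is the preimage of `l` in `S`.

Group side: `Three T`, `WG T D`, `LG T D`.
-/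

set_option autoImplicit false

universe u v

namespace Cfsg.Agent.H773.Rv

open Cfsg Cfsg.FusionSystem Subgroup Cfsg.Agent.H275.Heis

variable {Ω : Type*} [Group Ω] {S : Subgroup Ω} {p : ℕ} [hp : Fact p.Prime]

/-- `x` commutes with all elements of `S`. -/
def InZ (S : Subgroup Ω) (x : Ω) : Prop := ∀ s ∈ S, s * x = x * s

/-- The preimage in `S` of a subspace of `S/Z(S)`. -/
noncomputable def lineOf (D : HData p S) (l : Submodule (ZMod p) (Fin 2 → ZMod p)) : Subgroup Ω where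
  carrier := {x | ∃ h : x ∈ S, D.pi ⟨x, h⟩ ∈ l}
  one_mem' := ⟨one_mem S, by
    have : (⟨1, one_mem S⟩ : S) = 1 := rfl
    rw [this, D.pi_one]
    exact l.zero_mem⟩
  mul_mem' := by
    rintro x y ⟨hx, hxl⟩ ⟨hy, hyl⟩
    refine ⟨mul_mem hx hy, ?_⟩
    have : (⟨x * y, mul_mem hx hy⟩ : S) = ⟨x, hx⟩ * ⟨y, hy⟩ := rfl
    rw [this, D.pi_mul]
    exact l.add_mem hxl hyl
  inv_mem' := by
    rintro x ⟨hx, hxl⟩
    refine ⟨inv_mem hx, ?_⟩
    have h1 : D.pi (⟨x, hx⟩ * (⟨x, hx⟩ : S)⁻¹) = 0 := by rw [mul_inv_cancel, D.pi_one]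
    rw [D.pi_mul] at h1
    have h2 : D.pi (⟨x, hx⟩ : S)⁻¹ = - D.pi ⟨x, hx⟩ := (neg_eq_of_add_eq_zero_right h1).symm
    have : (⟨x⁻¹, inv_mem hx⟩ : S) = (⟨x, hx⟩ : S)⁻¹ := rfl
    rw [this, h2]
    exact l.neg_mem hxl

theorem mem_lineOf {D : HData p S} {l : Submodule (ZMod p) (Fin 2 → ZMod p)} {x : Ω} :
    x ∈ lineOf D l ↔ ∃ h : x ∈ S, D.pi ⟨x, h⟩ ∈ l := Iff.rfl

/-! ### Fusion systems -/

/-- The image of `Aut_F(S)` in `GL₂(p)`. -/
noncomputable def W (F : FusionSystem S) (D : HData p S) : Subgroup (GL (Fin 2) (ZMod p)) :=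
  (F.autGroup S).map D.rep

/-- Some automorphism in `Aut_F(V)` moves the centre of `S`. -/
def Rad (F : FusionSystem S) (V : Subgroup Ω) : Prop :=
  ∃ α ∈ F.autGroup V, ∃ y : V, InZ S (y : Ω) ∧ ¬ InZ S ((α y : V) : Ω)

/-- The radical lines. -/
def LL (F : FusionSystem S) (D : HData p S) : Set (Submodule (ZMod p) (Fin 2 → ZMod p)) :=
  {l | Module.finrank (ZMod p) l = 1 ∧ Rad F (lineOf D l)}

/-! ### Groups -/

variable {G : Type*} [Group G]

/-- Three pairwise noncommuting elements of `T`, each conjugate in `G` to an element of the centre of `T`. -/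
def Three (T : Subgroup G) : Prop :=
  ∃ a ∈ T, ∃ b ∈ T, ∃ c ∈ T, a * b ≠ b * a ∧ b * c ≠ c * b ∧ a * c ≠ c * a ∧
    ∀ x ∈ ({a, b, c} : Set G), ∃ y ∈ T, InZ T y ∧ IsConj x y

/-- The image of `N_G(T)` in `GL₂(p)`. -/
noncomputable def WG (T : Subgroup G) (D : HData p T) : Subgroup (GL (Fin 2) (ZMod p)) :=
  (autInducedBy ⊤ T).map D.rep

/-- Some element of `N_G(V)` moves the centre of `T`. -/
def RadG (T V : Subgroup G) : Prop :=
  ∃ g ∈ normalizer (V : Set G), ∃ y ∈ V, InZ T y ∧ ¬ InZ T (g * y * g⁻¹)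

/-- The radical lines. -/
def LG (T : Subgroup G) (D : HData p T) : Set (Submodule (ZMod p) (Fin 2 → ZMod p)) :=
  {l | Module.finrank (ZMod p) l = 1 ∧ RadG T (lineOf D l)}

/-! ### What the group side has to deliver -/

/-- `p = 5` (Th) and `p = 13` (Monster). -/
def TargetThree (p : ℕ) [Fact p.Prime] : Prop :=
  ∃ (G : Type) (_ : Group G) (_ : Finite G) (T : Sylow p G),
    Nat.card T = p ^ 3 ∧ (∀ x ∈ (T : Subgroup G), x ^ p = 1) ∧ Three (T : Subgroup G)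

/-- `p = 3`: `n = 72` (`D₈`, Tits group), `n = 144` (`SD₁₆`, `²F₄(2)`, `J₄` or `Ru`). -/
def TargetP3 (n : ℕ) : Prop :=
  ∃ (G : Type) (_ : Group G) (_ : Finite G) (T : Sylow 3 G),
    Nat.card T = 27 ∧ (∀ x ∈ (T : Subgroup G), x ^ 3 = 1) ∧ Three (T : Subgroup G) ∧
      Nat.card (normalizer ((T : Subgroup G) : Set G)) =
        n * Nat.card (centralizer ((T : Subgroup G) : Set G))

/-- `k = 2`: the group `W` contains the matrices `diag(a⁻¹, a²)`, `diag(a², a⁻¹)` and consists of monomial matrices. -/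
def TargetTwo (p : ℕ) [Fact p.Prime] : Prop :=
  ∀ W : Subgroup (GL (Fin 2) (ZMod p)),
    (∀ a : (ZMod p)ˣ, ∃ w ∈ W, (w : Matrix (Fin 2) (Fin 2) (ZMod p)) = !![((a⁻¹ : (ZMod p)ˣ) : ZMod p), 0; 0, (a : ZMod p) ^ 2]) →
    (∀ a : (ZMod p)ˣ, ∃ w ∈ W, (w : Matrix (Fin 2) (Fin 2) (ZMod p)) = !![(a : ZMod p) ^ 2, 0; 0, ((a⁻¹ : (ZMod p)ˣ) : ZMod p)]) →
    (∀ w ∈ W, ∃ a b : ZMod p, (w : Matrix (Fin 2) (Fin 2) (ZMod p)) = !![a, 0; 0, b] ∨
      (w : Matrix (Fin 2) (Fin 2) (ZMod p)) = !![0, a; b, 0]) →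
    ∃ (G : Type) (_ : Group G) (_ : Finite G) (T : Sylow p G) (D : HData p (T : Subgroup G)),
      WG (T : Subgroup G) D = W ∧
        LG (T : Subgroup G) D = {Submodule.span (ZMod p) {![1, 0]}, Submodule.span (ZMod p) {![0, 1]}}

end Cfsg.Agent.H773.Rv
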