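import Cfsg.Agent.BpMon.Thirteen
import Cfsg.Agent.H773.MonThree

/-!
# Odd normal subgroups of `C(x) ∩ C(z)` in the Monster, `x` of order 13 (helper773, for S5207)

* `odd_field` : the field `odd` of `H757.RvT.Hyp 13 x z i j`.
-/

set_option autoImplicit false
set_option maxRecDepth 100000

namespace Cfsg.Agent.H773.Mon13

open Cfsg Cfsg.Spor Cfsg.Agent.BpTab Cfsg.Agent.LeechMat.Core Cfsg.Agent.MonsterX.KSide Cfsg.Agent.MonsterX.KLift
open Cfsg.Agent.MonsterX.FrameKS Cfsg.Agent.PreUniq
open Cfsg.Agent.MonsterU.Lam2 Cfsg.Agent.MonsterU.TwoCls Cfsg.Agent.MonsterU.TwoQ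
open Cfsg.Agent.MonsterU.Ch
open Cfsg.Agent.CoOneType.ClosingFacts
open Cfsg.Agent.LThreeBX.NoSeven (exists_odd comm_of_mk)
open Cfsg.Agent.LThreeMB (fr zD)
open Subgroup

universe u

/-- commuting elements of order `p` generate the same subgroup if `p ^ 2` does not divide the group order -/
theorem mem_of_not_sq {H : Type*} [Group H] [Finite H] {p : ℕ} (hp : p.Prime) (h2 : ¬ p ^ 2 ∣ Nat.card H) {a b : H}
    (ha : orderOf a = p) (hb : orderOf b = p) (hab : a * b = b * a) : b ∈ zpowers a := by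
  by_contra hcon
  apply h2
  have hpf : Fact p.Prime := ⟨hp⟩
  have hd : Disjoint (zpowers a) (zpowers b) := by
    rw [disjoint_def]
    intro y hya hyb
    by_contra hy
    apply hcon
    have h1 : orderOf y = p := by
      have h3 : orderOf y ∣ p := by
        rw [← ha]
        exact orderOf_dvd_of_mem_zpowers hya
      rcases (Nat.dvd_prime hp).1 h3 with h | h
      · exact absurd (orderOf_eq_one_iff.1 h) hy
      · exact h
    have h2 : zpowers y = zpowers b := by
      apply eq_of_le_of_card_ge (zpowers_le.2 hyb)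
      rw [Nat.card_zpowers, Nat.card_zpowers, h1, hb]
    have h3 : b ∈ zpowers y := by rw [h2]; exact mem_zpowers b
    exact (zpowers_le.2 hya) h3
  let f : zpowers a × zpowers b →* H :=
    MonoidHom.noncommCoprod (zpowers a).subtype (zpowers b).subtype (by
      rintro ⟨c, m, rfl⟩ ⟨d, n, rfl⟩
      exact ((show Commute a b from hab).zpow_zpow m n))
  have hf : Function.Injective f := by
    rw [MonoidHom.noncommCoprod_injective]
    refine ⟨Subtype.val_injective, Subtype.val_injective, ?_⟩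
    rw [range_subtype, range_subtype]
    exact hd
  have h3 := card_dvd_of_injective f hf
  rw [Nat.card_prod, Nat.card_zpowers, Nat.card_zpowers, ha, hb, ← pow_two] at h3
  exact h3

/-- two commuting elements of order 3: products -/
theorem orderOf_mul_three {H : Type*} [Group H] {v w : H} (hv : v ^ 3 = 1) (hw : w ^ 3 = 1) (hvw : v * w = w * v)
    (h : w ∉ zpowers v) : orderOf (v * w) = 3 ∧ orderOf (v * (w * w)) = 3 := by
  have : Fact (Nat.Prime 3) := ⟨by norm_num⟩
  have hc : Commute v w := hvw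
  have hc2 : Commute v (w * w) := hc.mul_right hc
  constructor
  · apply orderOf_eq_prime
    · rw [hc.mul_pow, hv, hw, one_mul]
    · intro h1
      apply h
      rw [← inv_eq_of_mul_eq_one_right h1]
      exact inv_mem (mem_zpowers v)
  · apply orderOf_eq_prime
    · rw [hc2.mul_pow, hv, one_mul, ← pow_two, ← pow_mul, mul_comm, pow_mul, hw, one_pow]
    · intro h1
      apply h
      have h2 : w * w = v⁻¹ := (inv_eq_of_mul_eq_one_right h1).symm
      have h3 : w = (w * w) * (w * w) := by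
        calc w = w ^ 3 * w := by rw [hw, one_mul]
          _ = (w * w) * (w * w) := by rw [pow_succ, pow_two]; simp only [mul_assoc]
      rw [h3, h2]
      exact mul_mem (inv_mem (mem_zpowers v)) (inv_mem (mem_zpowers v))

/-- If commuting elements of order 3 of a finite group are powers of each other, any two subgroups of order 3 are
conjugate. -/
theorem conj_three {H : Type*} [Group H] [Finite H]
    (hc : ∀ v w : H, orderOf v = 3 → orderOf w = 3 → v * w = w * v → w ∈ zpowers v) {v h : H} (hv : orderOf v = 3)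
    (hh : orderOf h = 3) : ∃ g : H, g * h * g⁻¹ ∈ zpowers v := by
  have hp : Fact (Nat.Prime 3) := ⟨by norm_num⟩
  have h1 : IsPGroup 3 (zpowers v) := IsPGroup.of_card (n := 1) (by rw [Nat.card_zpowers, hv, pow_one])
  have h2 : IsPGroup 3 (zpowers h) := IsPGroup.of_card (n := 1) (by rw [Nat.card_zpowers, hh, pow_one])
  obtain ⟨P, hP⟩ := h1.exists_le_sylow
  obtain ⟨R, hR⟩ := h2.exists_le_sylow
  obtain ⟨g, hg⟩ := MulAction.exists_smul_eq H R P
  have hvP : v ∈ (P : Subgroup H) := hP (mem_zpowers v)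
  have hhP : g * h * g⁻¹ ∈ (P : Subgroup H) := by
    rw [← hg]
    exact ⟨h, hR (mem_zpowers h), rfl⟩
  refine ⟨g, ?_⟩
  have hnt : Nontrivial (P : Subgroup H) := by
    refine ⟨⟨⟨v, hvP⟩, 1, ?_⟩⟩
    intro h3
    have h4 : v = 1 := congrArg Subtype.val h3
    rw [h4, orderOf_one] at hv
    norm_num at hv
  have hZ := P.2.center_nontrivial
  obtain ⟨c, hcc⟩ : ∃ c : center (P : Subgroup H), orderOf c = 3 := by
    have h5 : 3 ∣ Nat.card (center (P : Subgroup H)) := by
      obtain ⟨n, hn⟩ := (IsPGroup.iff_card.1 (P.2.to_subgroup (center (P : Subgroup H))))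
      rw [hn]
      apply dvd_pow_self
      rintro rfl
      rw [pow_zero] at hn
      exact absurd hn (Finite.one_lt_card_iff_nontrivial.2 hZ).ne'
    exact exists_prime_orderOf_dvd_card' 3 h5
  obtain ⟨⟨c, hcP⟩, hcZ⟩ := c
  have hco : orderOf c = 3 := by
    rw [Subgroup.orderOf_mk, Subgroup.orderOf_mk] at hcc
    exact hcc
  have hcm : ∀ y ∈ (P : Subgroup H), c * y = y * c := by
    intro y hy
    exact (congrArg Subtype.val (mem_center_iff.1 hcZ ⟨y, hy⟩)).symm
  have e1 : v ∈ zpowers c := hc c v hco hv (hcm v hvP)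
  have e2 : g * h * g⁻¹ ∈ zpowers c := by
    refine hc c _ hco ?_ (hcm _ hhP)
    rw [← hh]
    exact orderOf_injective (MulAut.conj g).toMonoidHom (MulAut.conj g).injective h
  have e3 : zpowers v = zpowers c := by
    apply eq_of_le_of_card_ge (zpowers_le.2 e1)
    rw [Nat.card_zpowers, Nat.card_zpowers, hv, hco]
  rw [e3]
  exact e2

section KS

variable {G : Type u} {V P W : Type*} [Group G] [AddCommGroup V] [Module ℚ V]
  [DistribMulAction G V] [SMulCommClass G ℚ V] [Group P] [AddCommGroup W] [Module ℚ W]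
  {M : KS G V P W} {θ : leechLattice → P}

/-- lifts of elements of odd prime order commuting with `x` -/
theorem exists_lift (L : Lift M θ) (hc : LThreeMB.KChart.Cent M) {a : Co0} (ha13 : a ^ 13 = 1)
    {x n : centralizer ({M.z} : Set G)} (ha : mk a = LThreeMB.KChart.pi hc x) {q : ℕ} (hq : q.Prime) (ho : Odd q)
    (hn : orderOf n = q) (hxn : x * n = n * x) :
    ∃ b : Co0, mk b = LThreeMB.KChart.pi hc n ∧ orderOf b = q ∧ a * b = b * a := by
  have h1 := MFive.orderOf_pi (LThreeMB.KChart.chart L hc) hq ho hn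
  obtain ⟨b, hb, hbq⟩ := exists_odd (n := q) ho (show (LThreeMB.KChart.pi hc n) ^ q = 1 by
    rw [← h1, pow_orderOf_eq_one])
  have : Fact q.Prime := ⟨hq⟩
  refine ⟨b, hb, orderOf_eq_prime hbq ?_, ?_⟩
  · rintro rfl
    have h2 : LThreeMB.KChart.pi hc n = 1 := hb.symm
    rw [h2, orderOf_one] at h1
    exact hq.one_lt.ne h1
  · exact comm_of_mk (n := 13) (by decide) ha13 (by rw [ha, hb, ← map_mul, hxn, map_mul])

/-- commuting elements of order 3 of `C(x) ∩ C(z)` -/
theorem comm_three (L : Lift M θ) (hc : LThreeMB.KChart.Cent M) {x v w : centralizer ({M.z} : Set G)}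
    (hx : orderOf x = 13) (hv : orderOf v = 3) (hw : orderOf w = 3) (hxv : x * v = v * x) (hxw : x * w = w * x)
    (hvw : v * w = w * v) : w ∈ zpowers v := by
  by_contra hcon
  obtain ⟨a, ha, ha13, hao⟩ := BpSpor.MBigCo.exists_lift_thirteen
    (MFive.orderOf_pi (LThreeMB.KChart.chart L hc) (by norm_num) (by decide) hx)
  obtain ⟨b, hb, hbo, hab⟩ := exists_lift L hc ha13 ha (q := 3) (by norm_num) (by decide) hv hxv
  obtain ⟨c, hcm, hco, hac⟩ := exists_lift L hc ha13 ha (q := 3) (by norm_num) (by decide) hw hxw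
  have hv3 : v ^ 3 = 1 := by rw [← hv, pow_orderOf_eq_one]
  have hw3 : w ^ 3 = 1 := by rw [← hw, pow_orderOf_eq_one]
  have hb3 : b ^ 3 = 1 := by rw [← hbo, pow_orderOf_eq_one]
  have hc3 : c ^ 3 = 1 := by rw [← hco, pow_orderOf_eq_one]
  have hbc : b * c = c * b :=
    comm_of_mk (n := 3) (by decide) hb3 (by rw [hb, hcm, ← map_mul, hvw, map_mul])
  obtain ⟨o1, o2⟩ := orderOf_mul_three hv3 hw3 hvw hcon
  have o1' := MFive.orderOf_pi (LThreeMB.KChart.chart L hc) (by norm_num) (by decide) o1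
  have o2' := MFive.orderOf_pi (LThreeMB.KChart.chart L hc) (by norm_num) (by decide) o2
  have hbc' : Commute b c := hbc
  have h3 : Fact (Nat.Prime 3) := ⟨by norm_num⟩
  refine not_nine hao hbo hco ?_ ?_ hab.symm hac.symm hbc
  · apply orderOf_eq_prime
    · rw [hbc'.mul_pow, hb3, hc3, one_mul]
    · intro h1
      have h2 : LThreeMB.KChart.pi hc (v * w) = 1 := by
        rw [map_mul, ← hb, ← hcm, ← mk_mul, h1]; rfl
      rw [h2, orderOf_one] at o1'
      norm_num at o1'
  · apply orderOf_eq_prime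
    · rw [(hbc'.mul_right hbc').mul_pow, hb3, one_mul, ← pow_two, ← pow_mul, mul_comm, pow_mul, hc3, one_pow]
    · intro h1
      have h2 : LThreeMB.KChart.pi hc (v * (w * w)) = 1 := by
        rw [map_mul, map_mul, ← hb, ← hcm, ← mk_mul, ← mk_mul, h1]; rfl
      rw [h2, orderOf_one] at o2'
      norm_num at o2'

theorem card_cz [Finite G] (L : Lift M θ) (hc : LThreeMB.KChart.Cent M) :
    Nat.card (centralizer ({M.z} : Set G)) ∣ 2 ^ 25 * Nat.card Co1 :=
  BpRankZero.Seven.card_cz (LThreeMB.KChart.chart L hc)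

theorem not_sq_cz [Finite G] (L : Lift M θ) (hc : LThreeMB.KChart.Cent M) :
    ¬ 13 ^ 2 ∣ Nat.card (centralizer ({M.z} : Set G)) := by
  intro h
  have h1 := h.trans (card_cz L hc)
  rw [Cfsg.Agent.MonsterU.CoFrameF.card_Co1] at h1
  norm_num at h1

/-- **The field `odd`**: subgroups of odd order of `C(x) ∩ C(z)`, normalised by `C(x) ∩ C(z)`, are contained in `⟨x⟩`. -/
theorem odd_field [Finite G] (L : Lift M θ) (hc : LThreeMB.KChart.Cent M) {x i j h : G} (hx : orderOf x = 13)
    (hxz : x * M.z = M.z * x) (ix : i * x = x * i) (_jx : j * x = x * j) (hhx : h * x = x * h)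
    (hhz : h * M.z = M.z * h) (ii : i * i = M.z) (jj : j * j = M.z) (ij : i * j = j * i * M.z) (h3 : h ^ 3 = 1)
    (hij : h * i * h⁻¹ = j) :
    ∀ N : Subgroup G, Odd (Nat.card N) → (∀ n ∈ N, n * x = x * n ∧ n * M.z = M.z * n) →
      (∀ e : G, e * x = x * e → e * M.z = M.z * e → ∀ n ∈ N, e * n * e⁻¹ ∈ N) → N ≤ zpowers x := by
  intro N hodd hN hnorm
  have hchart := LThreeMB.KChart.chart L hc
  have hzo : orderOf M.z = 2 := LargeExtra.Base.orderOf_z hchart.large
  have hz1 : M.z ≠ 1 := by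
    intro h0
    rw [h0, orderOf_one] at hzo
    norm_num at hzo
  have hzz : M.z * M.z = 1 := by rw [← pow_two, ← hzo, pow_orderOf_eq_one]
  have hiz : i * M.z = M.z * i := by rw [← ii, mul_assoc]
  have hjz : j * M.z = M.z * j := by rw [← jj, mul_assoc]
  -- elements of the centralizer of `z`
  let X : centralizer ({M.z} : Set G) := ⟨x, mem_centralizer_singleton_iff.2 hxz⟩
  have hX : orderOf X = 13 := by rw [Subgroup.orderOf_mk]; exact hx
  have hmk : ∀ n ∈ N, n ∈ centralizer ({M.z} : Set G) := fun n hn => mem_centralizer_singleton_iff.2 (hN n hn).2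
  have hcX : ∀ n (hn : n ∈ N), X * ⟨n, hmk n hn⟩ = ⟨n, hmk n hn⟩ * X := fun n hn => Subtype.ext (hN n hn).1.symm
  -- `3` does not divide the order of `N`
  have hno3 : ∀ v ∈ N, orderOf v ≠ 3 := by
    intro v hv hvo
    have hho : orderOf h = 3 := by
      have : Fact (Nat.Prime 3) := ⟨by norm_num⟩
      apply orderOf_eq_prime h3
      rintro rfl
      rw [one_mul, inv_one, mul_one] at hij
      rw [← hij, ii] at ij
      exact hz1 (mul_eq_left.1 (show M.z * M.z = M.z from ij.symm))
    let Γ : Subgroup G := centralizer ({x} : Set G) ⊓ centralizer ({M.z} : Set G)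
    have hmem : ∀ e : G, e * x = x * e → e * M.z = M.z * e → e ∈ Γ := fun e h1 h2 =>
      ⟨mem_centralizer_singleton_iff.2 h1, mem_centralizer_singleton_iff.2 h2⟩
    have hΓ : ∀ e ∈ Γ, e * x = x * e ∧ e * M.z = M.z * e := fun e he =>
      ⟨mem_centralizer_singleton_iff.1 he.1, mem_centralizer_singleton_iff.1 he.2⟩
    obtain ⟨g, hg⟩ := conj_three (H := Γ) (v := ⟨v, hmem v (hN v hv).1 (hN v hv).2⟩) (h := ⟨h, hmem h hhx hhz⟩) (by
      rintro ⟨a, ha⟩ ⟨b, hb⟩ hao hbo hab
      rw [Subgroup.orderOf_mk] at hao hbo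
      have hab' : a * b = b * a := congrArg Subtype.val hab
      have h4 := comm_three L hc (x := X) (v := ⟨a, mem_centralizer_singleton_iff.2 (hΓ a ha).2⟩)
        (w := ⟨b, mem_centralizer_singleton_iff.2 (hΓ b hb).2⟩) hX (by rw [Subgroup.orderOf_mk]; exact hao)
        (by rw [Subgroup.orderOf_mk]; exact hbo) (Subtype.ext (hΓ a ha).1.symm) (Subtype.ext (hΓ b hb).1.symm)
        (Subtype.ext hab')
      obtain ⟨k, hk⟩ := h4
      have hk' : a ^ k = b := congrArg Subtype.val hk
      exact ⟨k, Subtype.ext hk'⟩) (by rw [Subgroup.orderOf_mk]; exact hvo)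
      (by rw [Subgroup.orderOf_mk]; exact hho)
    obtain ⟨k, hk⟩ := hg
    have hk' : v ^ k = (g : G) * h * (g : G)⁻¹ := congrArg Subtype.val hk
    have hgN : (g : G) * h * (g : G)⁻¹ ∈ N := by
      rw [← hk']
      exact zpow_mem hv k
    have hgg := hΓ _ (inv_mem g.2)
    have hhN : h ∈ N := by
      have h5 := hnorm _ hgg.1 hgg.2 _ hgN
      have h6 : (g : G)⁻¹ * ((g : G) * h * (g : G)⁻¹) * (g : G)⁻¹⁻¹ = h := by group
      rwa [h6] at h5
    have h7 : i * j⁻¹ ∈ N := by
      have h8 : i * j⁻¹ = (i * h * i⁻¹) * h⁻¹ := by rw [← hij]; group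
      rw [h8]
      exact mul_mem (hnorm i ix hiz h hhN) (inv_mem hhN)
    have hj1 : j⁻¹ = j * M.z := by
      rw [inv_eq_iff_mul_eq_one, ← mul_assoc, jj, hzz]
    have h9 : (i * j⁻¹) ^ 4 = 1 := by
      have h10 : (i * j⁻¹) * (i * j⁻¹) = M.z := by
        rw [hj1]
        have h11 : j * i = i * j * M.z := by
          rw [ij, mul_assoc, hzz, mul_one]
        calc i * (j * M.z) * (i * (j * M.z)) = i * j * (M.z * i) * (j * M.z) := by group
          _ = i * j * (i * M.z) * (j * M.z) := by rw [hiz]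
          _ = i * (j * i) * (M.z * j) * M.z := by group
          _ = i * (i * j * M.z) * (j * M.z) * M.z := by rw [h11, hjz]
          _ = (i * i) * j * (M.z * j) * (M.z * M.z) := by group
          _ = (i * i) * (j * j) * M.z * (M.z * M.z) := by rw [← hjz]; group
          _ = M.z := by rw [ii, jj, hzz]; group
      have h17 : ∀ t : G, t ^ 4 = (t * t) * (t * t) := fun t => by
        rw [← pow_two, ← pow_two, ← pow_mul]
      rw [h17, h10, hzz]
    have h12 : i * j⁻¹ = 1 := by
      have h13 : orderOf (i * j⁻¹) ∣ 4 := orderOf_dvd_of_pow_eq_one h9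
      have h14 : orderOf (i * j⁻¹) ∣ Nat.card N := Subgroup.orderOf_dvd_natCard _ h7
      have h15 : Nat.Coprime 4 (Nat.card N) := by
        have : Nat.Coprime (2 ^ 2) (Nat.card N) := Nat.Coprime.pow_left 2 (Nat.coprime_two_left.2 hodd)
        exact this
      exact orderOf_eq_one_iff.1 (Nat.eq_one_of_dvd_coprimes h15 h13 h14)
    have h16 : i = j := mul_inv_eq_one.1 h12
    rw [h16, jj] at ij
    exact hz1 (mul_eq_left.1 ij.symm)
  -- prime divisors
  have hprime : ∀ q : ℕ, q.Prime → q ∣ Nat.card N → q = 13 := by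
    intro q hq hqd
    have hqf : Fact q.Prime := ⟨hq⟩
    have hqo : Odd q := Odd.of_dvd_nat hodd hqd
    obtain ⟨⟨n, hn⟩, hno⟩ := exists_prime_orderOf_dvd_card' q hqd
    rw [Subgroup.orderOf_mk] at hno
    by_contra h13
    obtain ⟨a, ha, ha13, hao⟩ := BpSpor.MBigCo.exists_lift_thirteen
      (MFive.orderOf_pi hchart (by norm_num) (by decide) hX)
    obtain ⟨b, hb, hbo, hab⟩ := exists_lift L hc ha13 ha (q := q) hq hqo (n := ⟨n, hmk n hn⟩)
      (by rw [Subgroup.orderOf_mk]; exact hno) (hcX n hn)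
    have hfin : Finite Co0 := CpAutBig.CoZero.finite_co0
    have hqc : q ∣ Nat.card (centralizer ({a} : Set Co0)) := by
      rw [← hbo]
      exact Subgroup.orderOf_dvd_natCard _ (mem_centralizer_singleton_iff.2 hab.symm)
    have hq5 : q < 5 := by
      by_contra h5
      exact BpSpor.MBigCo.not_dvd_thirteen hao hq (by omega) h13 hqc
    have hq3 : q = 3 := by
      have h2 := hq.two_le
      interval_cases q
      · exact absurd hqo (by decide)
      · rfl
      · exact absurd hqo (by decide)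
    rw [hq3] at hno
    exact hno3 n hn hno
  intro n hn
  have hoN : orderOf n ∣ Nat.card N := Subgroup.orderOf_dvd_natCard _ hn
  have hNpos : Nat.card N ≠ 0 := Nat.card_pos.ne'
  have hpos : orderOf n ≠ 0 := fun h0 => hNpos (Nat.eq_zero_of_zero_dvd (h0 ▸ hoN))
  obtain ⟨k, hk⟩ : ∃ k, orderOf n = 13 ^ k :=
    ⟨_, Nat.eq_prime_pow_of_unique_prime_dvd hpos (fun hq hd => hprime _ hq (hd.trans hoN))⟩
  have hCz : orderOf n ∣ Nat.card (centralizer ({M.z} : Set G)) := Subgroup.orderOf_dvd_natCard _ (hmk n hn)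
  have hk1 : k ≤ 1 := by
    by_contra hk2
    apply not_sq_cz L hc
    exact (pow_dvd_pow 13 (by omega)).trans (hk ▸ hCz)
  interval_cases k
  · rw [pow_zero] at hk
    rw [orderOf_eq_one_iff.1 hk]
    exact one_mem _
  · rw [pow_one] at hk
    obtain ⟨m, hm⟩ := mem_of_not_sq (p := 13) (by norm_num) (not_sq_cz L hc) (a := X) (b := ⟨n, hmk n hn⟩) hX
      (by rw [Subgroup.orderOf_mk]; exact hk) (hcX n hn)
    exact ⟨m, congrArg Subtype.val hm⟩

end KS

open Cfsg.Agent.MonsterX Cfsg.Agent.MonsterX.InstData in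
/-- **The field `odd` for the model of the Monster.** -/
theorem odd_model {x i j h : ↥InstData.M.G} (hx : orderOf x = 13) (hxz : x * KDone.K.z = KDone.K.z * x)
    (ix : i * x = x * i) (jx : j * x = x * j) (hhx : h * x = x * h) (hhz : h * KDone.K.z = KDone.K.z * h)
    (ii : i * i = KDone.K.z) (jj : j * j = KDone.K.z) (ij : i * j = j * i * KDone.K.z) (h3 : h ^ 3 = 1)
    (hij : h * i * h⁻¹ = j) :
    ∀ N : Subgroup ↥InstData.M.G, Odd (Nat.card N) → (∀ n ∈ N, n * x = x * n ∧ n * KDone.K.z = KDone.K.z * n) →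
      (∀ e : ↥InstData.M.G, e * x = x * e → e * KDone.K.z = KDone.K.z * e → ∀ n ∈ N, e * n * e⁻¹ ∈ N) →
        N ≤ zpowers x := by
  have := MFive.Row.finite_model
  exact odd_field KDone.lft MFive.Row.hc hx hxz ix jx hhx hhz ii jj ij h3 hij

end Cfsg.Agent.H773.Mon13
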