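import Cfsg.Agent.H773.RvLine
import Cfsg.Agent.H802.FusAlp

/-!
# `Aut_F(V)` for the subgroups `V` of order `p^2` (helper773)
-/

set_option autoImplicit false

namespace Cfsg.Agent.H773.Rv

open Cfsg Cfsg.FusionSystem Subgroup Cfsg.Agent.H275.Heis Cfsg.Agent.H802

variable {Ω : Type*} [Group Ω] {S : Subgroup Ω} {p : ℕ} [hp : Fact p.Prime] {D : HData p S}
  {F : FusionSystem S}

namespace IsLn

variable {v : S} {V : Subgroup Ω} (h : IsLn D v V)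

/-- The matrices of the elements of `Aut_F(V)`. -/
noncomputable def AG (F : FusionSystem S) : Subgroup (GL (Fin 2) (ZMod p)) := (F.autGroup V).map h.bas.ro

theorem mem_AG {N : GL (Fin 2) (ZMod p)} : N ∈ h.AG F ↔ ∃ α ∈ F.autGroup V, h.bas.ro α = N := Iff.rfl

theorem mem_AG' {α : MulAut V} : h.bas.ro α ∈ h.AG F ↔ α ∈ F.autGroup V := by
  constructor
  · rintro ⟨β, hβ, hβα⟩
    rwa [← h.bas.ro_injective hβα]
  · exact fun hα => ⟨α, hα, rfl⟩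

theorem ro_conj {g : Ω} (hg : g ∈ S) {α : MulAut V} (hα : ∀ x : V, ((α x : V) : Ω) = g * x * g⁻¹) :
    (h.bas.ro α : Matrix (Fin 2) (Fin 2) (ZMod p)) = !![1, 0; D.c ⟨g, hg⟩ v, 1] := by
  apply h.bas.mulVec_ext
  intro x
  rw [← h.bas.co_ro]
  have h1 : α x = pw (⟨D.z, h.zmem⟩ : V) (D.c ⟨g, hg⟩ ⟨x, h.le x.2⟩) * x := by
    apply Subtype.ext
    rw [hα, h.conj_eq hg x.2, Subgroup.coe_mul, coe_pw, coe_pw]
  rw [h1, h.bas.co_mul, h.bas.co_pw, h.bas.co_z, h.c_eq]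
  ext i
  fin_cases i
  · simp [Matrix.mulVec, dotProduct, Fin.sum_univ_two]
  · simp [Matrix.mulVec, dotProduct, Fin.sum_univ_two]
    ring

theorem AG_low (F : FusionSystem S) (k : ZMod p) : In (h.AG F) !![1, 0; k, 1] := by
  obtain ⟨g, hg⟩ := h.exists_c k
  obtain ⟨α, hα⟩ := exists_conjAut (h.mem_normalizer g.2)
  refine ⟨h.bas.ro α, h.mem_AG'.2 (autInducedBy_le_autGroup F h.le ?_), ?_⟩
  · rw [mem_autInducedBy_iff]
    exact ⟨g, g.2, hα⟩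
  · rw [h.ro_conj g.2 hα]
    change !![1, 0; D.c g v, 1] = _
    rw [hg]

theorem rad_iff : Rad F V ↔ ∃ M ∈ h.AG F, (M : Matrix (Fin 2) (Fin 2) (ZMod p)) 0 1 ≠ 0 := by
  constructor
  · rintro ⟨α, hα, y, hy, hy'⟩
    refine ⟨_, h.mem_AG'.2 hα, fun h0 => hy' ?_⟩
    rw [h.inZ_iff'] at hy ⊢
    rw [h.bas.co_ro]
    simp [Matrix.mulVec, dotProduct, Fin.sum_univ_two, h0, hy]
  · rintro ⟨_, ⟨α, hα, rfl⟩, h0⟩
    refine ⟨α, hα, ⟨D.z, h.zmem⟩, ?_, ?_⟩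
    · rw [h.inZ_iff', h.bas.co_z]
      rfl
    · rw [h.inZ_iff', h.bas.ro_apply_z]
      exact h0

theorem sl_mem (hR : Rad F V) {N : Matrix (Fin 2) (Fin 2) (ZMod p)} (hN : N.det = 1) : In (h.AG F) N := by
  obtain ⟨M, hM, hM0⟩ := h.rad_iff.1 hR
  exact sl_le (h.AG_low F) ⟨M, hM, rfl⟩ hM0 hN

include h in
theorem isFullyNormalized [Finite S] (F : FusionSystem S) : F.IsFullyNormalized V := by
  refine ⟨h.le, fun Q _ => ?_⟩
  rw [h.normalizerIn_eq]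
  exact Subgroup.card_le_of_le inf_le_left

theorem det_ne (α : MulAut V) : (h.bas.ro α : Matrix (Fin 2) (Fin 2) (ZMod p)).det ≠ 0 :=
  (Matrix.isUnits_det_units _).ne_zero

/-- Automorphisms of `V` fixing `Z(S)` extend to `S`. -/
theorem exists_ext [Finite S] (hS : IsPGroup p S) (hF : F.IsSaturated p) {α : MulAut V} (hα : α ∈ F.autGroup V)
    (h0 : (h.bas.ro α : Matrix (Fin 2) (Fin 2) (ZMod p)) 0 1 = 0) :
    ∃ ψ ∈ F.autGroup S, ∀ (x : Ω) (hx : x ∈ V), ((ψ ⟨x, h.le hx⟩ : S) : Ω) = (α ⟨x, hx⟩ : V) := by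
  set M : Matrix (Fin 2) (Fin 2) (ZMod p) := (h.bas.ro α : Matrix (Fin 2) (Fin 2) (ZMod p)) with hM
  have hdet : M.det ≠ 0 := h.det_ne α
  rw [Matrix.det_fin_two, h0, zero_mul, sub_zero] at hdet
  have h00 : M 0 0 ≠ 0 := left_ne_zero_of_mul hdet
  have hfV : Finite V := finite_of_le h.le
  have hrec := isReceptive_of_isFullyNormalized hS hF (h.isFullyNormalized F)
  set φ : V →* Ω := V.subtype.comp α.toMonoidHom with hφ
  have hφF : φ ∈ F.Hom V := (mem_autGroup_iff F h.le α).1 hα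
  have hφa : ∀ x, φ x = (α x : V) := fun x => rfl
  have hr : φ.range = V := by
    ext y
    constructor
    · rintro ⟨x, rfl⟩
      exact (α x).2
    · intro hy
      obtain ⟨x, hx⟩ := α.surjective ⟨y, hy⟩
      exact ⟨x, congrArg Subtype.val hx⟩
  obtain ⟨ψ, hψ, hψe⟩ := hrec.2 V φ hφF hr
  -- the extender is `S`
  have hext : extender S V φ = S := by
    apply le_antisymm (extender_le _ _ _)
    intro g hg
    rw [mem_extender_iff]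
    refine ⟨hg, h.mem_normalizer hg, ?_⟩
    obtain ⟨g', hg'⟩ := h.exists_c (M 1 1 * D.c ⟨g, hg⟩ v / M 0 0)
    refine ⟨g', g'.2, fun x hx => ?_⟩
    have e1 : (⟨g * x * g⁻¹, hx⟩ : V) = pw (⟨D.z, h.zmem⟩ : V) (D.c ⟨g, hg⟩ ⟨x, h.le x.2⟩) * x := by
      apply Subtype.ext
      change g * x * g⁻¹ = _
      rw [h.conj_eq hg x.2, Subgroup.coe_mul, coe_pw, coe_pw]
    have e2 : g' * (φ x) * (g' : Ω)⁻¹ =
        ((pw (⟨D.z, h.zmem⟩ : V) (D.c g' ⟨α x, h.le (α x).2⟩) * α x : V) : Ω) := by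
      rw [hφa, h.conj_eq g'.2 (α x).2, Subgroup.coe_mul, coe_pw, coe_pw]
    rw [e2, hφa]
    congr 1
    rw [e1]
    apply h.bas.co_inj
    have e3 : α (pw (⟨D.z, h.zmem⟩ : V) (D.c ⟨g, hg⟩ ⟨x, h.le x.2⟩)) =
        pw (α ⟨D.z, h.zmem⟩) (D.c ⟨g, hg⟩ ⟨x, h.le x.2⟩) :=
      map_pw α.toMonoidHom _ _
    rw [map_mul, e3, h.bas.co_mul, h.bas.co_mul, h.bas.co_pw, h.bas.co_pw, h.bas.co_z, h.bas.ro_apply_z,
      h.c_eq g' (α x), hg', h.bas.co_ro α x, ← hM, h0, h.c_eq ⟨g, hg⟩ x]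
    ext i
    fin_cases i
    · simp
    · simp [Matrix.mulVec, dotProduct, Fin.sum_univ_two, h0]
      field_simp
  -- an automorphism of `S`
  have key : ∀ (R : Subgroup Ω) (hR : R = S) (ψ : R →* Ω) (_ : ψ ∈ F.Hom R)
      (_ : ∀ (x : Ω) (hP : x ∈ V) (hN : x ∈ R), ψ ⟨x, hN⟩ = φ ⟨x, hP⟩),
      ∃ ψ ∈ F.autGroup S, ∀ (x : Ω) (hx : x ∈ V), ((ψ ⟨x, h.le hx⟩ : S) : Ω) = (α ⟨x, hx⟩ : V) := by
    rintro R rfl ψ hψ hψe
    obtain ⟨β, hβ, hβe⟩ := exists_aut hψ (range_eq_of_mapsTo hψ (fun x => (F.le_of_mem hψ).2 x))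
    refine ⟨β, hβ, fun x hx => ?_⟩
    rw [hβe, hψe x hx]
    rfl
  exact key _ hext ψ hψ hψe

/-- The image under `rep` of an extension. -/
theorem rep_ext {α : MulAut V} {ψ : MulAut S}
    (he : ∀ (x : Ω) (hx : x ∈ V), ((ψ ⟨x, h.le hx⟩ : S) : Ω) = (α ⟨x, hx⟩ : V))
    (h0 : (h.bas.ro α : Matrix (Fin 2) (Fin 2) (ZMod p)) 0 1 = 0) :
    Matrix.mulVec (D.rep ψ : Matrix (Fin 2) (Fin 2) (ZMod p)) (D.pi v) =
        (h.bas.ro α : Matrix (Fin 2) (Fin 2) (ZMod p)) 0 0 • D.pi v ∧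
      (D.rep ψ : Matrix (Fin 2) (Fin 2) (ZMod p)).det = (h.bas.ro α : Matrix (Fin 2) (Fin 2) (ZMod p)) 1 1 := by
  constructor
  · rw [D.rep_mulVec]
    have h1 : ψ v = ⟨α ⟨v, h.vmem⟩, h.le (α ⟨v, h.vmem⟩).2⟩ := Subtype.ext (he v h.vmem)
    rw [h1, h.pi_eq, h.bas.ro_apply_v]
    rfl
  · have h1 := D.rep_det ψ
    have h2 : ((ψ D.z : S) : Ω) = (α ⟨D.z, h.zmem⟩ : V) := he D.z h.zmem
    have h3 := h.coe_eq (α ⟨D.z, h.zmem⟩)
    rw [h.bas.ro_apply_z, h0] at h3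
    simp only [Matrix.cons_val_zero, Matrix.cons_val_one, pw_zero, one_mul] at h3
    rw [h3, h1] at h2
    exact (pw_inj (D.pow_p _) D.z_ne).1 (Subtype.ext h2)

end IsLn

end Cfsg.Agent.H773.Rv
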