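import Cfsg.Agent.H773.RvElt
import Cfsg.Agent.H773.MaxReal
import Cfsg.Agent.H781.Transport

/-!
# Comparison with a realized system, change of coordinates (helper773)
-/

set_option autoImplicit false

universe u v

namespace Cfsg.Agent.H773.Rv

open Cfsg Cfsg.FusionSystem Subgroup Cfsg.Agent.H275.Heis Cfsg.Agent.H802 Cfsg.Agent.H781

variable {Ω : Type u} [Group Ω] {S : Subgroup Ω} {p : ℕ} [hp : Fact p.Prime] {D : HData p S}
  {F : FusionSystem S}

section Realized

variable {G : Type v} [Group G] {ι : S →* G}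

theorem mem_autGroup_top_of_realized (h : F.IsRealizedBy ι) {α : MulAut S} :
    α ∈ F.autGroup S ↔ ∃ g : G, ∀ s : S, ι (α s) = g * ι s * g⁻¹ := by
  rw [mem_autGroup_iff F le_rfl, h.2 S le_rfl _ (fun x => (α x).2)]
  exact Iff.rfl

theorem radE_iff_of_realized (h : F.IsRealizedBy ι) (v : S) :
    RadE F (v : Ω) ↔ ∃ (g : G) (y : S), InZ S (y : Ω) ∧ g * ι v * g⁻¹ = ι y := by
  have hle : zpowers (v : Ω) ≤ S := zpowers_le.2 v.2
  constructor
  · rintro ⟨φ, hφ, hφz⟩
    have hφS : ∀ x, φ x ∈ S := (F.le_of_mem hφ).2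
    obtain ⟨g, hg⟩ := (h.2 _ hle φ hφS).1 hφ
    exact ⟨g, ⟨_, hφS ⟨v, mem_zpowers _⟩⟩, hφz, (hg ⟨v, mem_zpowers _⟩).symm⟩
  · rintro ⟨g, y, hy, hgy⟩
    let ψ : zpowers (v : Ω) →* G := (MulAut.conj g).toMonoidHom.comp (ι.comp (inclusion hle))
    have hψ : ∀ x, ψ x ∈ ι.range := by
      rintro ⟨x, hx⟩
      obtain ⟨n, rfl⟩ := mem_zpowers_iff.1 hx
      refine ⟨y ^ n, ?_⟩
      have h1 : (⟨(v : Ω) ^ n, hx⟩ : zpowers (v : Ω)) = ⟨v, mem_zpowers _⟩ ^ n := rfl
      rw [h1, map_zpow, map_zpow]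
      congr 1
      exact hgy.symm
    let φ : zpowers (v : Ω) →* Ω :=
      S.subtype.comp ((MonoidHom.ofInjective h.1).symm.toMonoidHom.comp (ψ.codRestrict ι.range hψ))
    have hφS : ∀ x, φ x ∈ S := fun x => ((MonoidHom.ofInjective h.1).symm ⟨ψ x, hψ x⟩).2
    have hφι : ∀ x, ι ⟨φ x, hφS x⟩ = ψ x := by
      intro x
      have h2 : (⟨φ x, hφS x⟩ : S) = (MonoidHom.ofInjective h.1).symm ⟨ψ x, hψ x⟩ := rfl
      rw [h2]
      have h3 := (MonoidHom.ofInjective h.1).apply_symm_apply ⟨ψ x, hψ x⟩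
      exact congrArg Subtype.val h3
    refine ⟨φ, (h.2 _ hle φ hφS).2 ⟨g, fun x => hφι x⟩, ?_⟩
    have h4 : ι ⟨φ ⟨v, mem_zpowers _⟩, hφS _⟩ = ι y := by
      rw [hφι, ← hgy]
      rfl
    have h5 := h.1 h4
    have h6 : φ ⟨v, mem_zpowers _⟩ = y := congrArg Subtype.val h5
    rw [h6]
    exact hy

end Realized

/-! ### Comparison -/

theorem rad_iff_of_data {Ω' : Type*} [Group Ω'] {S' : Subgroup Ω'} {F' : FusionSystem S'} {D' : HData p S'}
    (hL : LL F D = LL F' D') {l : Submodule (ZMod p) (Fin 2 → ZMod p)} (hl : Module.finrank (ZMod p) l = 1) :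
    Rad F (lineOf D l) ↔ Rad F' (lineOf D' l) := by
  constructor
  · intro h
    have : l ∈ LL F' D' := by rw [← hL]; exact ⟨hl, h⟩
    exact this.2
  · intro h
    have : l ∈ LL F D := by rw [hL]; exact ⟨hl, h⟩
    exact this.2

/-- **Comparison theorem.** -/
theorem realizable_of_data [Finite S] (hS : IsPGroup p S) (hF : F.IsSaturated p) (D : HData p S)
    {Ω' : Type*} [Group Ω'] {S' : Subgroup Ω'} [Finite S'] (hS' : IsPGroup p S') {F' : FusionSystem S'} (D' : HData p S')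
    {G : Type v} [Group G] [Finite G] {ι' : S' →* G} (h' : F'.IsRealizedBy ι') (T : Sylow p G)
    (hT : (T : Subgroup G) = ι'.range) (hW : W F D = W F' D') (hL : LL F D = LL F' D') :
    F.IsRealizable p := by
  obtain ⟨e, he, -⟩ := exists_equiv D D'
  set ι : S →* G := ι'.comp e.toMonoidHom with hι
  have hιe : ∀ s, ι s = ι' (e s) := fun s => rfl
  have hinj : Function.Injective ι := h'.1.comp e.injective
  have hr := pullback_isRealizedBy ι hinj
  have hTι : (T : Subgroup G) = ι.range := by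
    rw [hT]
    ext x
    constructor
    · rintro ⟨s, rfl⟩
      obtain ⟨t, rfl⟩ := e.surjective s
      exact ⟨t, rfl⟩
    · rintro ⟨s, rfl⟩
      exact ⟨e s, rfl⟩
  have hsat := isSaturated_of_isRealizedBy hr T hTι
  have hsat' := isSaturated_of_isRealizedBy h' T hT
  suffices hEq : F = pullback ι hinj by
    rw [hEq]
    exact isRealizable_of_isRealizedBy hr T hTι
  refine eq_of_data hS hF hsat D ?_ ?_
  · ext α
    rw [mem_autGroup_iff_rep F D, mem_autGroup_top_of_realized hr, hW]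
    have h1 : D.rep α = D'.rep (MulAut.congr e α) := by
      apply Units.ext
      apply D.mulVec_ext
      intro w
      rw [D.rep_mulVec, ← he w, D'.rep_mulVec, ← he]
      congr 1
      simp [MulAut.congr]
    rw [h1, ← mem_autGroup_iff_rep F' D', mem_autGroup_top_of_realized h']
    constructor
    · rintro ⟨g, hg⟩
      refine ⟨g, fun s => ?_⟩
      have := hg (e s)
      rw [hιe, hιe, ← this]
      congr 1
      simp [MulAut.congr]
    · rintro ⟨g, hg⟩
      refine ⟨g, fun s => ?_⟩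
      obtain ⟨s, rfl⟩ := e.surjective s
      have := hg s
      rw [hιe, hιe] at this
      rw [← this]
      congr 1
      simp [MulAut.congr]
  · ext l
    have key : ∀ hl : Module.finrank (ZMod p) l = 1,
        (Rad F (lineOf D l) ↔ Rad (pullback ι hinj) (lineOf D l)) := by
      intro hl
      obtain ⟨v, hlv, hv⟩ := exists_isLn (D := D) hl
      have hv' : IsLn D' (e v) (lineOf D' l) := by
        have h2 : D'.pi (e v) ≠ 0 := by rw [he]; exact hv.ne
        have h3 := isLn_span h2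
        rw [he, ← hlv] at h3
        exact h3
      rw [rad_iff_of_data hL hl, hv'.rad_iff_radE hS' hsat', hv.rad_iff_radE hS hsat,
        radE_iff_of_realized h', radE_iff_of_realized hr]
      constructor
      · rintro ⟨g, y, hy, hgy⟩
        obtain ⟨y, rfl⟩ := e.surjective y
        refine ⟨g, y, ?_, hgy⟩
        rw [inZ_iff D']at hy
        rw [inZ_iff D, ← he, hy]
      · rintro ⟨g, y, hy, hgy⟩
        refine ⟨g, e y, ?_, hgy⟩
        rw [inZ_iff D] at hy
        rw [inZ_iff D', he, hy]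
    constructor
    · rintro ⟨hl, h⟩
      exact ⟨hl, (key hl).1 h⟩
    · rintro ⟨hl, h⟩
      exact ⟨hl, (key hl).2 h⟩

/-! ### Change of coordinates -/

theorem rep_change {D D₁ : HData p S} {g : GL (Fin 2) (ZMod p)}
    (h : ∀ w, D₁.pi w = Matrix.mulVec (g : Matrix (Fin 2) (Fin 2) (ZMod p)) (D.pi w)) (α : MulAut S) :
    D₁.rep α = g * D.rep α * g⁻¹ := by
  have h1 : D₁.rep α * g = g * D.rep α := by
    apply Units.ext
    apply D.mulVec_ext
    intro w
    rw [Units.val_mul, Units.val_mul, ← Matrix.mulVec_mulVec, ← Matrix.mulVec_mulVec, ← h, D₁.rep_mulVec,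
      D.rep_mulVec, h]
  rw [← h1, mul_inv_cancel_right]

theorem W_change (F : FusionSystem S) {D D₁ : HData p S} {g : GL (Fin 2) (ZMod p)}
    (h : ∀ w, D₁.pi w = Matrix.mulVec (g : Matrix (Fin 2) (Fin 2) (ZMod p)) (D.pi w)) :
    W F D₁ = (W F D).map (MulAut.conj g).toMonoidHom := by
  ext w
  constructor
  · rintro ⟨α, hα, rfl⟩
    exact ⟨D.rep α, ⟨α, hα, rfl⟩, (rep_change h α).symm⟩
  · rintro ⟨_, ⟨α, hα, rfl⟩, rfl⟩
    exact ⟨α, hα, rep_change h α⟩

theorem lineOf_change {D D₁ : HData p S} {g : GL (Fin 2) (ZMod p)}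
    (h : ∀ w, D₁.pi w = Matrix.mulVec (g : Matrix (Fin 2) (Fin 2) (ZMod p)) (D.pi w))
    (l : Submodule (ZMod p) (Fin 2 → ZMod p)) : lineOf D₁ (H775.Cube.act g l) = lineOf D l := by
  ext x
  rw [mem_lineOf, mem_lineOf]
  have hinj : Function.Injective (Matrix.mulVecLin (g : Matrix (Fin 2) (Fin 2) (ZMod p))) := by
    intro a b hab
    have h1 : Matrix.mulVec (g : Matrix (Fin 2) (Fin 2) (ZMod p)) a =
      Matrix.mulVec (g : Matrix (Fin 2) (Fin 2) (ZMod p)) b := hab
    have h2 := congrArg (Matrix.mulVec ((g⁻¹ : GL (Fin 2) (ZMod p)) : Matrix (Fin 2) (Fin 2) (ZMod p))) h1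
    rw [Matrix.mulVec_mulVec, Matrix.mulVec_mulVec] at h2
    have h3 : ((g⁻¹ : GL (Fin 2) (ZMod p)) : Matrix (Fin 2) (Fin 2) (ZMod p)) *
        (g : Matrix (Fin 2) (Fin 2) (ZMod p)) = 1 := Units.inv_mul g
    rwa [h3, Matrix.one_mulVec, Matrix.one_mulVec] at h2
  constructor
  · rintro ⟨hx, hxl⟩
    refine ⟨hx, ?_⟩
    rw [h] at hxl
    obtain ⟨y, hy, hyx⟩ := hxl
    have := hinj hyx
    rwa [← this]
  · rintro ⟨hx, hxl⟩
    refine ⟨hx, ?_⟩
    rw [h]
    exact ⟨_, hxl, rfl⟩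

theorem finrank_act (g : GL (Fin 2) (ZMod p)) (l : Submodule (ZMod p) (Fin 2 → ZMod p)) :
    Module.finrank (ZMod p) (H775.Cube.act g l) = Module.finrank (ZMod p) l := by
  have hinj : Function.Injective (Matrix.mulVecLin (g : Matrix (Fin 2) (Fin 2) (ZMod p))) := by
    intro a b hab
    have h1 : Matrix.mulVec (g : Matrix (Fin 2) (Fin 2) (ZMod p)) a =
      Matrix.mulVec (g : Matrix (Fin 2) (Fin 2) (ZMod p)) b := hab
    have h2 := congrArg (Matrix.mulVec ((g⁻¹ : GL (Fin 2) (ZMod p)) : Matrix (Fin 2) (Fin 2) (ZMod p))) h1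
    rw [Matrix.mulVec_mulVec, Matrix.mulVec_mulVec] at h2
    have h3 : ((g⁻¹ : GL (Fin 2) (ZMod p)) : Matrix (Fin 2) (Fin 2) (ZMod p)) *
        (g : Matrix (Fin 2) (Fin 2) (ZMod p)) = 1 := Units.inv_mul g
    rwa [h3, Matrix.one_mulVec, Matrix.one_mulVec] at h2
  exact (Submodule.equivMapOfInjective _ hinj l).finrank_eq.symm

theorem act_act (g g' : GL (Fin 2) (ZMod p)) (l : Submodule (ZMod p) (Fin 2 → ZMod p)) :
    H775.Cube.act g (H775.Cube.act g' l) = H775.Cube.act (g * g') l := by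
  unfold H775.Cube.act
  rw [← Submodule.map_comp, Units.val_mul, Matrix.mulVecLin_mul]

theorem act_one (l : Submodule (ZMod p) (Fin 2 → ZMod p)) : H775.Cube.act (1 : GL (Fin 2) (ZMod p)) l = l := by
  unfold H775.Cube.act
  rw [Units.val_one, Matrix.mulVecLin_one, Submodule.map_id]

theorem LL_change (F : FusionSystem S) {D D₁ : HData p S} {g : GL (Fin 2) (ZMod p)}
    (h : ∀ w, D₁.pi w = Matrix.mulVec (g : Matrix (Fin 2) (Fin 2) (ZMod p)) (D.pi w)) :
    LL F D₁ = H775.Cube.act g '' LL F D := by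
  ext l
  constructor
  · rintro ⟨hl, hR⟩
    refine ⟨H775.Cube.act g⁻¹ l, ⟨?_, ?_⟩, ?_⟩
    · rw [finrank_act, hl]
    · rw [← lineOf_change h, act_act, mul_inv_cancel, act_one]
      exact hR
    · rw [act_act, mul_inv_cancel, act_one]
  · rintro ⟨m, ⟨hm, hR⟩, rfl⟩
    refine ⟨by rw [finrank_act, hm], ?_⟩
    rw [lineOf_change h]
    exact hR

/-- Comparison up to a change of coordinates. -/
theorem realizable_of_conj [Finite S] (hS : IsPGroup p S) (hF : F.IsSaturated p) (D : HData p S)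
    {Ω' : Type*} [Group Ω'] {S' : Subgroup Ω'} [Finite S'] (hS' : IsPGroup p S') {F' : FusionSystem S'} (D' : HData p S')
    {G : Type v} [Group G] [Finite G] {ι' : S' →* G} (h' : F'.IsRealizedBy ι') (T : Sylow p G)
    (hT : (T : Subgroup G) = ι'.range) (g : GL (Fin 2) (ZMod p))
    (hW : W F' D' = (W F D).map (MulAut.conj g).toMonoidHom) (hL : LL F' D' = H775.Cube.act g '' LL F D) :
    F.IsRealizable p := by
  obtain ⟨D₁, hD₁⟩ := exists_change D g
  refine realizable_of_data hS hF D₁ hS' D' h' T hT ?_ ?_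
  · rw [hW, W_change F hD₁]
  · rw [hL, LL_change F hD₁]

/-! ### The fusion system of a group -/

section GroupSide

variable {G : Type v} [Group G]

theorem autGroup_group {T V : Subgroup G} (hV : V ≤ T) : (groupFusionSystem T).autGroup V = autInducedBy ⊤ V := by
  rw [groupFusionSystem_eq]
  exact fs_autGroup le_top hV

theorem W_group (T : Subgroup G) (D : HData p T) : W (groupFusionSystem T) D = WG T D := by
  unfold W WG
  rw [autGroup_group le_rfl]

theorem rad_group {T V : Subgroup G} (hV : V ≤ T) : Rad (groupFusionSystem T) V ↔ RadG T V := by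
  unfold Rad RadG
  rw [autGroup_group hV]
  constructor
  · rintro ⟨α, hα, y, hy, hy'⟩
    obtain ⟨g, -, hg⟩ := (mem_autInducedBy_iff _ _ _).1 hα
    refine ⟨g, mem_normalizer_of_aut hg, y, y.2, hy, ?_⟩
    rwa [hg] at hy'
  · rintro ⟨g, hg, y, hyV, hy, hy'⟩
    obtain ⟨α, hα⟩ := exists_conjAut hg
    refine ⟨α, (mem_autInducedBy_iff _ _ _).2 ⟨g, mem_top _, hα⟩, ⟨y, hyV⟩, hy, ?_⟩
    rwa [hα]

theorem LL_group (T : Subgroup G) (D : HData p T) : LL (groupFusionSystem T) D = LG T D := by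
  ext l
  have hV : lineOf D l ≤ T := fun _ h => h.1
  constructor
  · rintro ⟨hl, hR⟩
    exact ⟨hl, (rad_group hV).1 hR⟩
  · rintro ⟨hl, hR⟩
    exact ⟨hl, (rad_group hV).2 hR⟩

/-- A group `T` with three pairwise noncommuting elements fused into the centre has at least three radical lines. -/
theorem three_le [Finite G] (T : Sylow p G) (D : HData p (T : Subgroup G)) (h3 : Three (T : Subgroup G)) :
    3 ≤ (LL (groupFusionSystem (T : Subgroup G)) D).ncard := by
  have hsat : (groupFusionSystem (T : Subgroup G)).IsSaturated p := groupFusionSystem_isSaturated T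
  have hr := groupFusionSystem_isRealizedBy (T : Subgroup G)
  obtain ⟨a, ha, b, hb, c, hc, hab, hbc, hac, hconj⟩ := h3
  have key : ∀ x (hx : x ∈ (T : Subgroup G)), x ∈ ({a, b, c} : Set G) → (∃ t ∈ (T : Subgroup G), x * t ≠ t * x) →
      Submodule.span (ZMod p) {D.pi ⟨x, hx⟩} ∈ LL (groupFusionSystem (T : Subgroup G)) D := by
    intro x hx hxabc ⟨t, ht, hxt⟩
    have hne : D.pi ⟨x, hx⟩ ≠ 0 := by
      intro h0
      exact hxt ((inZ_iff D ⟨x, hx⟩).2 h0 t ht).symm
    have hln := isLn_span hne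
    refine ⟨finrank_span_pi hne, (hln.rad_iff_radE T.2 hsat).2 ?_⟩
    rw [radE_iff_of_realized hr]
    obtain ⟨y, hy, hyZ, hxy⟩ := hconj x hxabc
    obtain ⟨g, hg⟩ := isConj_iff.1 hxy
    exact ⟨g, ⟨y, hy⟩, hyZ, hg⟩
  have hcomm : ∀ x y (hx : x ∈ (T : Subgroup G)) (hy : y ∈ (T : Subgroup G)),
      Submodule.span (ZMod p) {D.pi ⟨x, hx⟩} = Submodule.span (ZMod p) {D.pi ⟨y, hy⟩} → x * y = y * x := by
    intro x y hx hy h
    have h1 : D.pi ⟨x, hx⟩ ∈ Submodule.span (ZMod p) {D.pi ⟨y, hy⟩} := by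
      rw [← h]; exact Submodule.mem_span_singleton_self _
    obtain ⟨k, hk⟩ := Submodule.mem_span_singleton.1 h1
    have h2 : D.c ⟨x, hx⟩ ⟨y, hy⟩ = 0 := by
      rw [D.c_eq_det, ← hk]
      simp only [Pi.smul_apply, smul_eq_mul]
      ring
    exact congrArg Subtype.val (D.c_eq_zero_iff.1 h2).eq
  have hA := key a ha (by simp) ⟨b, hb, hab⟩
  have hB := key b hb (by simp) ⟨c, hc, hbc⟩
  have hC := key c hc (by simp) ⟨b, hb, fun h => hbc h.symm⟩
  have hfin : (LL (groupFusionSystem (T : Subgroup G)) D).Finite := Set.toFinite _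
  have hsub : ({Submodule.span (ZMod p) {D.pi ⟨a, ha⟩}, Submodule.span (ZMod p) {D.pi ⟨b, hb⟩},
      Submodule.span (ZMod p) {D.pi ⟨c, hc⟩}} : Set (Submodule (ZMod p) (Fin 2 → ZMod p))) ⊆
      LL (groupFusionSystem (T : Subgroup G)) D := by
    intro l hl
    rcases hl with rfl | rfl | rfl
    · exact hA
    · exact hB
    · exact hC
  have h5 := Set.ncard_le_ncard hsub hfin
  have h6 : ({Submodule.span (ZMod p) {D.pi ⟨a, ha⟩}, Submodule.span (ZMod p) {D.pi ⟨b, hb⟩},
      Submodule.span (ZMod p) {D.pi ⟨c, hc⟩}} : Set (Submodule (ZMod p) (Fin 2 → ZMod p))).ncard = 3 := by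
    rw [Set.ncard_eq_three]
    exact ⟨_, _, _, fun h => hab (hcomm _ _ ha hb h), fun h => hac (hcomm _ _ ha hc h),
      fun h => hbc (hcomm _ _ hb hc h), rfl⟩
  omega

/-- `|W|` from the normalizer and the centralizer. -/
theorem card_W_group [Finite G] (T : Sylow p G) (D : HData p (T : Subgroup G)) {n : ℕ}
    (hn : Nat.card (normalizer ((T : Subgroup G) : Set G)) = p ^ 2 * n * Nat.card (centralizer ((T : Subgroup G) : Set G))) :
    Nat.card (W (groupFusionSystem (T : Subgroup G)) D) = n := by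
  have h1 := card_autGroup_top (groupFusionSystem (T : Subgroup G)) D
  rw [autGroup_group le_rfl] at h1
  have h2 := card_autInducedBy_mul (⊤ : Subgroup G) (T : Subgroup G)
  have e1 : centralizerIn (⊤ : Subgroup G) (T : Subgroup G) = centralizer ((T : Subgroup G) : Set G) := top_inf_eq _
  have e2 : normalizerIn (⊤ : Subgroup G) (T : Subgroup G) = normalizer ((T : Subgroup G) : Set G) := top_inf_eq _
  rw [e1, e2, h1, hn] at h2
  have hpos : 0 < Nat.card (centralizer ((T : Subgroup G) : Set G)) := Nat.card_pos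
  have h3 := Nat.eq_of_mul_eq_mul_right hpos h2
  exact Nat.eq_of_mul_eq_mul_left (pow_pos hp.out.pos 2) h3

end GroupSide

end Cfsg.Agent.H773.Rv
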