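import Cfsg.Agent.H773.RvUni
import Cfsg.Agent.H771.RVCases
import Cfsg.Agent.H775.CubeConf

/-!
# Radical lines: uniqueness and the criterion with elements (helper773)
-/

set_option autoImplicit false

namespace Cfsg.Agent.H773.Rv

open Cfsg Cfsg.FusionSystem Subgroup Cfsg.Agent.H275.Heis Cfsg.Agent.H802

variable {Ω : Type*} [Group Ω] {S : Subgroup Ω} {p : ℕ} [hp : Fact p.Prime] {D : HData p S}
  {F F' : FusionSystem S}

/-- **The configuration of a saturated system.** -/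
theorem conf [Finite S] (hS : IsPGroup p S) (hF : F.IsSaturated p) (D : HData p S) :
    H775.Cube.Conf (W F D) (LL F D) where
  pprime := not_dvd_card_W hF D
  line := fun _ hl => hl.1
  inv := by
    rintro _ ⟨α, hα, rfl⟩ l ⟨hl, hR⟩
    exact ⟨H771.RV.finrank_map D α hl, H771.RV.map_line D hα hR⟩
  diag := by
    rintro l ⟨hl, hR⟩ a
    obtain ⟨v, hlv, hv⟩ := exists_isLn (D := D) hl
    obtain ⟨w, hw, hwv, hwd⟩ := hv.exists_diag hS hF hR a
    refine ⟨w, hw, fun x hx => ?_, hwd⟩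
    rw [hlv, Submodule.mem_span_singleton] at hx
    obtain ⟨c, rfl⟩ := hx
    rw [Matrix.mulVec_smul, hwv, smul_comm]

/-- **Uniqueness**, one inclusion. -/
theorem hom_subset [Finite S] (hS : IsPGroup p S) (hF : F.IsSaturated p) (D : HData p S)
    (hA : F.autGroup S ≤ F'.autGroup S) (hL : LL F D ⊆ LL F' D) (P : Subgroup Ω) : F.Hom P ⊆ F'.Hom P := by
  refine le_of_active hS hF F' (fun Q hQ _ hQc _ => ?_) P
  rcases H771.RV.cent_cases D hQ hQc with rfl | ⟨l, hl, rfl⟩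
  · exact hA
  · obtain ⟨v, hlv, hv⟩ := exists_isLn (D := D) hl
    exact hv.autGroup_le hS hF hA (fun hR => (hL ⟨hl, hR⟩).2)

/-- **Uniqueness.** -/
theorem eq_of_data [Finite S] (hS : IsPGroup p S) (hF : F.IsSaturated p) (hF' : F'.IsSaturated p) (D : HData p S)
    (hA : F.autGroup S = F'.autGroup S) (hL : LL F D = LL F' D) : F = F' :=
  fusionSystem_ext fun P => Set.Subset.antisymm (hom_subset hS hF D hA.le hL.le P)
    (hom_subset hS hF' D hA.ge hL.ge P)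

/-- Some map of the system carries `v` into the centre of `S`. -/
def RadE (F : FusionSystem S) (v : Ω) : Prop :=
  ∃ φ ∈ F.Hom (zpowers v), InZ S (φ ⟨v, mem_zpowers v⟩)

/-- If `V` is radical, `v` is carried into the centre. -/
theorem IsLn.radE {v : S} {V : Subgroup Ω} (h : IsLn D v V) (hR : Rad F V) : RadE F (v : Ω) := by
  obtain ⟨_, ⟨α, hα, rfl⟩, hN⟩ := h.sl_mem (F := F) hR (N := !![0, 1; -1, 0])
    (by rw [Matrix.det_fin_two_of]; ring)
  have hle : zpowers (v : Ω) ≤ V := zpowers_le.2 h.vmem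
  refine ⟨(V.subtype.comp α.toMonoidHom).comp (inclusion hle),
    aut_restrict_mem h.le hα hle (fun x hx => rfl), ?_⟩
  change InZ S ((α ⟨v, h.vmem⟩ : V) : Ω)
  rw [h.inZ_iff', h.bas.ro_apply_v, hN]
  rfl

/-- If `v` is carried into the centre, `V` is radical. -/
theorem IsLn.rad_of_radE [Finite S] (hS : IsPGroup p S) (hF : F.IsSaturated p) {v : S} {V : Subgroup Ω}
    (h : IsLn D v V) (hR : RadE F (v : Ω)) : Rad F V := by
  obtain ⟨φ, hφ, hφz⟩ := hR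
  have hv1 : v ≠ 1 := by
    rintro rfl
    exact h.ne D.pi_one
  set y : Ω := φ ⟨v, mem_zpowers _⟩ with hy
  have hyS : y ∈ S := (F.le_of_mem hφ).2 _
  have hy1 : y ≠ 1 := by
    intro h1
    have h2 : φ ⟨v, mem_zpowers _⟩ = φ 1 := by rw [map_one]; exact h1
    have h3 := F.injective_of_mem hφ h2
    have h4 : (v : Ω) = 1 := congrArg Subtype.val h3
    exact hv1 (Subtype.ext h4)
  -- extension to `V`
  have hr : φ.range = zpowers y := by
    ext x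
    constructor
    · rintro ⟨⟨w, hw⟩, rfl⟩
      obtain ⟨n, rfl⟩ := mem_zpowers_iff.1 hw
      have h4 : (⟨(v : Ω) ^ n, hw⟩ : zpowers (v : Ω)) = ⟨v, mem_zpowers _⟩ ^ n := rfl
      rw [h4, map_zpow]
      exact zpow_mem_zpowers _ _
    · intro hx
      obtain ⟨n, rfl⟩ := mem_zpowers_iff.1 hx
      exact ⟨⟨v, mem_zpowers _⟩ ^ n, by rw [map_zpow]⟩
  have hyN : normalizerIn S (zpowers y) = S := by
    apply le_antisymm inf_le_left
    intro g hg
    refine mem_inf.2 ⟨hg, ?_⟩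
    rw [Subgroup.mem_normalizer_iff]
    intro x
    have hc : ∀ t ∈ zpowers y, g * t * g⁻¹ = t := by
      intro t ht
      obtain ⟨n, rfl⟩ := mem_zpowers_iff.1 ht
      rw [← conj_zpow, hφz g hg, mul_inv_cancel_right]
    constructor
    · intro hx
      rw [hc x hx]
      exact hx
    · intro hx
      have h5 := hc _ hx
      have h6 : g * (g * x * g⁻¹ * x⁻¹) * g⁻¹ = 1 := by
        have : g * (g * x * g⁻¹ * x⁻¹) * g⁻¹ = (g * (g * x * g⁻¹) * g⁻¹) * (g * x * g⁻¹)⁻¹ := by group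
        rw [this, h5, mul_inv_cancel]
      have h7 : g * x * g⁻¹ = x := by
        have := conj_eq_one_iff.1 h6
        exact mul_inv_eq_one.1 this
      rwa [h7] at hx
  have hQn : F.IsFullyNormalized (zpowers y) := by
    refine ⟨zpowers_le.2 hyS, fun Q _ => ?_⟩
    rw [hyN]
    exact Subgroup.card_le_of_le inf_le_left
  obtain ⟨ψ, hψ, hψe⟩ := (isReceptive_of_isFullyNormalized hS hF hQn).2 _ φ hφ hr
  have hVext : V ≤ extender S (zpowers (v : Ω)) φ := by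
    intro g hg
    rw [mem_extender_iff]
    have hc : ∀ t ∈ zpowers (v : Ω), g * t * g⁻¹ = t := by
      intro t ht
      rw [h.commute hg (zpowers_le.2 h.vmem ht), mul_inv_cancel_right]
    refine ⟨h.le hg, ?_, 1, one_mem S, fun x hx => ?_⟩
    · rw [Subgroup.mem_normalizer_iff]
      intro x
      constructor
      · intro hx
        rw [hc x hx]
        exact hx
      · intro hx
        have h5 := hc _ hx
        have h6 : g * (g * x * g⁻¹ * x⁻¹) * g⁻¹ = 1 := by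
          have : g * (g * x * g⁻¹ * x⁻¹) * g⁻¹ = (g * (g * x * g⁻¹) * g⁻¹) * (g * x * g⁻¹)⁻¹ := by group
          rw [this, h5, mul_inv_cancel]
        have h7 : g * x * g⁻¹ = x := by
          have := conj_eq_one_iff.1 h6
          exact mul_inv_eq_one.1 this
        rwa [h7] at hx
    · rw [one_mul, inv_one, mul_one]
      congr 1
      exact Subtype.ext (hc x x.2)
  set χ : V →* Ω := ψ.comp (inclusion hVext) with hχ
  have hχF : χ ∈ F.Hom V := restrict_mem hψ hVext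
  have hχv : χ ⟨v, h.vmem⟩ = y := hψe v (mem_zpowers _) (hVext h.vmem)
  -- the image is a line
  have hzS : χ ⟨D.z, h.zmem⟩ ∈ S := (F.le_of_mem hχF).2 _
  set w : S := ⟨χ ⟨D.z, h.zmem⟩, hzS⟩ with hw
  have hy0 : D.pi ⟨y, hyS⟩ = 0 := (inZ_iff D ⟨y, hyS⟩).1 hφz
  obtain ⟨k, hk⟩ : ∃ k : ZMod p, (⟨y, hyS⟩ : S) = pw D.z k := by
    rw [D.pi_eq_zero_iff, D.center_eq] at hy0
    exact exists_pw_of_mem_zpowers (D.pow_p _) hy0
  have hk0 : k ≠ 0 := by
    rintro rfl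
    rw [pw_zero] at hk
    exact hy1 (congrArg Subtype.val hk)
  have hχf : ∀ a b : ZMod p, χ (pw (⟨v, h.vmem⟩ : V) a * pw (⟨D.z, h.zmem⟩ : V) b) =
      ((pw (⟨y, hyS⟩ : S) a * pw w b : S) : Ω) := by
    intro a b
    rw [map_mul, map_pw, map_pw, hχv, Subgroup.coe_mul, coe_pw, coe_pw]
  have hwne : D.pi w ≠ 0 := by
    intro h0
    obtain ⟨m, hm⟩ : ∃ m : ZMod p, w = pw D.z m := by
      rw [D.pi_eq_zero_iff, D.center_eq] at h0
      exact exists_pw_of_mem_zpowers (D.pow_p _) h0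
    have h1 : χ (pw (⟨v, h.vmem⟩ : V) m * pw (⟨D.z, h.zmem⟩ : V) (-k)) = 1 := by
      rw [hχf, hk, hm, ← pw_mul (D.pow_p _), ← pw_mul (D.pow_p _), ← pw_add (D.pow_p _)]
      have : k * m + m * -k = 0 := by ring
      rw [this, pw_zero]
      rfl
    have h2 := F.injective_of_mem hχF (h1.trans (map_one χ).symm)
    exact hk0 (neg_eq_zero.1 (h.bas.uni _ _ h2).2)
  have hV' : IsLn D w χ.range := by
    refine ⟨hwne, fun x => ?_⟩
    constructor
    · rintro ⟨t, rfl⟩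
      obtain ⟨a, b, rfl⟩ := h.bas.ex t
      refine ⟨b, k * a, ?_⟩
      rw [hχf, hk, ← pw_mul (D.pow_p _), (pw_commute (D.commute_z w) (k * a) b).eq]
    · rintro ⟨a, b, rfl⟩
      refine ⟨pw (⟨v, h.vmem⟩ : V) (b / k) * pw (⟨D.z, h.zmem⟩ : V) a, ?_⟩
      rw [hχf, hk, ← pw_mul (D.pow_p _), (pw_commute (D.commute_z w) (k * (b / k)) a).eq,
        mul_div_cancel₀ _ hk0]
  obtain ⟨β, hβ, ψ', hψ', hψ'e, -⟩ := exists_extension_normalizer hS hF hχF rfl (hV'.isFullyNormalized F)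
  -- an automorphism of `S`
  have key : ∀ (R : Subgroup Ω) (hR : R = S) (ψ' : R →* Ω) (_ : ψ' ∈ F.Hom R)
      (_ : ∀ (x : V) (hx : χ x ∈ χ.range) (hx' : (x : Ω) ∈ R), ψ' ⟨x, hx'⟩ = (β ⟨χ x, hx⟩ : χ.range)),
      ∃ Ψ ∈ F.autGroup S, ∀ x : V, ((Ψ ⟨x, h.le x.2⟩ : S) : Ω) = (β ⟨χ x, ⟨x, rfl⟩⟩ : χ.range) := by
    rintro R rfl ψ' hψ' hψ'e
    obtain ⟨Ψ, hΨ, hΨe⟩ := exists_aut hψ' (range_eq_of_mapsTo hψ' (fun x => (F.le_of_mem hψ').2 x))
    refine ⟨Ψ, hΨ, fun x => ?_⟩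
    rw [hΨe, hψ'e x ⟨x, rfl⟩]
  obtain ⟨Ψ, hΨ, hΨe⟩ := key _ h.normalizerIn_eq ψ' hψ' hψ'e
  -- the composite
  have hΨV : ∀ (t : Ω) (ht : t ∈ χ.range), ∃ x : V, Ψ ⟨x, h.le x.2⟩ = ⟨t, hV'.le ht⟩ := by
    intro t ht
    obtain ⟨⟨_, x, rfl⟩, hx⟩ := β.surjective ⟨t, ht⟩
    refine ⟨x, Subtype.ext ?_⟩
    rw [hΨe, hx]
  have hinv : ∀ x : V, ((Ψ⁻¹ ⟨χ x, (F.le_of_mem hχF).2 x⟩ : S) : Ω) ∈ V := by
    intro x
    obtain ⟨x', hx'⟩ := hΨV (χ x) ⟨x, rfl⟩
    have h1 : Ψ⁻¹ (⟨χ x, (F.le_of_mem hχF).2 x⟩ : S) = ⟨x', h.le x'.2⟩ := by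
      apply Ψ.injective
      rw [MulAut.apply_inv_self, hx']
    rw [h1]
    exact x'.2
  have hΨ' : S.subtype.comp (Ψ⁻¹ : MulAut S).toMonoidHom ∈ F.Hom S :=
    (mem_autGroup_iff F le_rfl _).1 (inv_mem hΨ)
  have hcomp := F.comp_mem hχF hΨ' (fun x => (F.le_of_mem hχF).2 x)
  have hfV : Finite V := finite_of_le h.le
  obtain ⟨α, hα, hαe⟩ := exists_aut hcomp (range_eq_of_mapsTo hcomp hinv)
  have hαv : InZ S ((α ⟨v, h.vmem⟩ : V) : Ω) := by
    rw [hαe]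
    change InZ S ((Ψ⁻¹ ⟨χ ⟨v, h.vmem⟩, _⟩ : S) : Ω)
    rw [H771.RV.inZ_aut]
    change InZ S (χ ⟨v, h.vmem⟩)
    rw [hχv]
    exact hφz
  refine ⟨α⁻¹, inv_mem hα, α ⟨v, h.vmem⟩, hαv, ?_⟩
  rw [MulAut.inv_apply_self]
  intro h0
  exact h.ne ((inZ_iff D v).1 h0)

/-- **Radical lines in terms of elements.** -/
theorem IsLn.rad_iff_radE [Finite S] (hS : IsPGroup p S) (hF : F.IsSaturated p) {v : S} {V : Subgroup Ω}
    (h : IsLn D v V) : Rad F V ↔ RadE F (v : Ω) := ⟨h.radE, h.rad_of_radE hS hF⟩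

end Cfsg.Agent.H773.Rv
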