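import Cfsg.Agent.H773.RvMain
import Cfsg.Agent.H775.CubeFinal
import Cfsg.Agent.H745.RvTits
import Cfsg.Agent.H745.RvJ4
import Cfsg.Agent.H757.ThFinal

/-!
# Fusion systems over extraspecial groups of order `p^3` and exponent `p`: final assembly (helper773)

Everything is reduced to `TargetThree 13`.
-/

set_option autoImplicit false

universe u v

namespace Cfsg.Agent.H773.Rv

open Cfsg Cfsg.FusionSystem Subgroup Cfsg.Agent.H275.Heis Cfsg.Agent.H802 Cfsg.Agent.H781
open Cfsg.Agent.H775.Cube (Conf act)

theorem final (h13 : ∀ [Fact (Nat.Prime 13)], TargetThree 13) {Ω : Type u} [Group Ω] {S : Subgroup Ω} [Finite S] (p : ℕ)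
    [hpf : Fact p.Prime] (hS : IsPGroup p S) (F : FusionSystem S) (hF : F.IsSaturated p) (hp : p ≠ 2) (hp7 : p ≠ 7)
    (hE : IsExtraspecial p ↥S) (hcard : Nat.card S = p ^ 3) (hexp : Monoid.exponent ↥S = p) : F.IsRealizable p := by
  obtain ⟨D⟩ := exists_hData hE hcard hexp
  by_cases h1 : (LL F D).ncard ≤ 1
  · exact H771.RV.realizable_of_le_one D hS hF h1
  by_cases h2 : (LL F D).ncard = 2
  · exact realizable_two hS hF D hp (fun W L hc hn => H775.Cube.two_lines hc hn) h2
  have h3 : 3 ≤ (LL F D).ncard := by omega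
  rcases H775.Cube.primes_of_three hp (conf hS hF D) h3 with h | h | h | h
  · subst h
    have hconj : ∀ (W W' : Subgroup (GL (Fin 2) (ZMod 3))) (L L' : Set (Submodule (ZMod 3) (Fin 2 → ZMod 3))),
        Conf W L → Conf W' L' → 3 ≤ L.ncard → 3 ≤ L'.ncard → Nat.card W = Nat.card W' →
          ∃ g : GL (Fin 2) (ZMod 3), W' = W.map (MulAut.conj g).toMonoidHom ∧ L' = act g '' L :=
      fun W W' L L' hc hc' hl hl' he => H775.Cube.conj_of_three_p3 hc hc' hl hl' he
    rcases H775.Cube.card_of_three_p3 (conf hS hF D) h3 with hn | hn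
    · exact realizable_three_card hS hF D (n := 8) H745.RvTits.target hconj h3 hn
    · exact realizable_three_card hS hF D (n := 16) H745.RvJ4.target hconj h3 hn
  · subst h
    exact realizable_three hS hF D H757.ThF.target
      (fun W W' L L' hc hc' hl hl' => H775.Cube.conj_of_three hp (by norm_num) hp7 hc hc' hl hl') h3
  · exact absurd h hp7
  · subst h
    exact realizable_three hS hF D h13
      (fun W W' L L' hc hc' hl hl' => H775.Cube.conj_of_three hp (by norm_num) hp7 hc hc' hl hl') h3

end Cfsg.Agent.H773.Rv
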