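import Cfsg.Agent.H275.Heis

/-!
# Extraspecial groups of order `p^3` and exponent `p`: isomorphisms and change of coordinates (helper773)
-/

set_option autoImplicit false

namespace Cfsg.Agent.H773.Rv

open Subgroup Cfsg.Agent.H275.Heis

variable {P P' : Type*} [Group P] [Group P'] {p : ℕ} [hp : Fact p.Prime]

/-- Normal forms. -/
noncomputable def nf (D : HData p P) (a b k : ZMod p) : P := pw D.x0 a * pw D.y0 b * pw D.z k

theorem nf_mul (D : HData p P) (a b k a' b' k' : ZMod p) :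
    nf D a b k * nf D a' b' k' = nf D (a + a') (b + b') (k + k' - b * a') := by
  have hz : ∀ (m : ZMod p) (w : P), pw D.z m * w = w * pw D.z m := fun m w =>
    ((D.commute_z w).pow_left _).eq
  have h1 : pw D.y0 b * pw D.x0 a' = pw D.z (- (b * a')) * (pw D.x0 a' * pw D.y0 b) := by
    have h2 := D.conj_eq (pw D.y0 b) (pw D.x0 a')
    rw [D.c_pw_left, D.c_pw_right, D.c_swap, D.c_x0_y0] at h2
    have h3 : pw D.y0 b * pw D.x0 a' = (pw D.y0 b * pw D.x0 a' * (pw D.y0 b)⁻¹) * pw D.y0 b := by group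
    rw [h3, h2, mul_assoc]
    congr 2
    ring
  unfold nf
  rw [pw_add (D.pow_p _), pw_add (D.pow_p _)]
  calc pw D.x0 a * pw D.y0 b * pw D.z k * (pw D.x0 a' * pw D.y0 b' * pw D.z k')
      = pw D.x0 a * (pw D.y0 b * pw D.x0 a') * pw D.y0 b' * (pw D.z k * pw D.z k') := by
        rw [mul_assoc _ (pw D.z k), ← mul_assoc (pw D.z k), ← mul_assoc (pw D.z k), hz k (pw D.x0 a'),
          mul_assoc (pw D.x0 a') (pw D.z k), hz k (pw D.y0 b')]
        group
    _ = pw D.x0 a * (pw D.x0 a' * pw D.y0 b) * pw D.y0 b' * (pw D.z (- (b * a')) * (pw D.z k * pw D.z k')) := by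
        rw [h1, hz, ← mul_assoc (pw D.x0 a), mul_assoc (pw D.x0 a * _) (pw D.z (-(b * a'))) (pw D.y0 b'),
          hz (-(b * a')) (pw D.y0 b')]
        group
    _ = pw D.x0 a * pw D.x0 a' * (pw D.y0 b * pw D.y0 b') * pw D.z (k + k' - b * a') := by
        have : k + k' - b * a' = - (b * a') + (k + k') := by ring
        rw [this, pw_add (D.pow_p _), pw_add (D.pow_p _)]
        group

theorem pi_nf (D : HData p P) (a b k : ZMod p) : D.pi (nf D a b k) = ![a, b] := by
  unfold nf
  have h := D.pi_lift ![a, b]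
  simp only [Matrix.cons_val_zero, Matrix.cons_val_one] at h
  rw [D.pi_mul, h, D.pi_pw, D.pi_eq_zero_iff.2 D.z_mem, smul_zero, add_zero]

theorem exists_nf (D : HData p P) (w : P) : ∃ a b k : ZMod p, w = nf D a b k := by
  obtain ⟨k, hk⟩ := D.exists_decomp w
  exact ⟨_, _, k, hk⟩

theorem nf_inj (D : HData p P) {a b k a' b' k' : ZMod p} (h : nf D a b k = nf D a' b' k') :
    a = a' ∧ b = b' ∧ k = k' := by
  have h1 := congrArg D.pi h
  rw [pi_nf, pi_nf] at h1
  have h2 := congrFun h1 0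
  have h3 := congrFun h1 1
  simp only [Matrix.cons_val_zero, Matrix.cons_val_one] at h2 h3
  subst h2
  subst h3
  refine ⟨rfl, rfl, ?_⟩
  unfold nf at h
  exact (pw_inj (D.pow_p _) D.z_ne).1 (mul_left_cancel h)

/-- The isomorphism between two such groups matching the coordinates. -/
theorem exists_equiv (D : HData p P) (D' : HData p P') :
    ∃ e : P ≃* P', (∀ w, D'.pi (e w) = D.pi w) ∧ ∀ a b k, e (nf D a b k) = nf D' a b k := by
  choose f g k hfgk using exists_nf D
  let φ : P → P' := fun w => nf D' (f w) (g w) (k w)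
  have hφ : ∀ a b c, φ (nf D a b c) = nf D' a b c := by
    intro a b c
    obtain ⟨h1, h2, h3⟩ := nf_inj D (hfgk (nf D a b c))
    change nf D' _ _ _ = _
    rw [← h1, ← h2, ← h3]
  have hmul : ∀ u v, φ (u * v) = φ u * φ v := by
    intro u v
    obtain ⟨a, b, c, rfl⟩ := exists_nf D u
    obtain ⟨a', b', c', rfl⟩ := exists_nf D v
    rw [nf_mul, hφ, hφ, hφ, nf_mul]
  have hbij : Function.Bijective φ := by
    constructor
    · intro u v huv
      obtain ⟨a, b, c, rfl⟩ := exists_nf D u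
      obtain ⟨a', b', c', rfl⟩ := exists_nf D v
      rw [hφ, hφ] at huv
      obtain ⟨rfl, rfl, rfl⟩ := nf_inj D' huv
      rfl
    · intro w
      obtain ⟨a, b, c, rfl⟩ := exists_nf D' w
      exact ⟨nf D a b c, hφ a b c⟩
  refine ⟨MulEquiv.ofBijective (MonoidHom.mk' φ hmul) hbij, fun w => ?_, fun a b c => hφ a b c⟩
  obtain ⟨a, b, c, rfl⟩ := exists_nf D w
  change D'.pi (φ _) = _
  rw [hφ, pi_nf, pi_nf]

/-- Change of coordinates. -/
theorem exists_change (D : HData p P) (g : GL (Fin 2) (ZMod p)) :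
    ∃ D' : HData p P, ∀ w, D'.pi w = Matrix.mulVec (g : Matrix (Fin 2) (Fin 2) (ZMod p)) (D.pi w) := by
  have hfin : Finite P := Nat.finite_of_card_ne_zero (by rw [D.card_eq]; exact (pow_pos hp.out.pos 3).ne')
  set h : Matrix (Fin 2) (Fin 2) (ZMod p) := ((g⁻¹ : GL (Fin 2) (ZMod p)) : Matrix (Fin 2) (Fin 2) (ZMod p)) with hh
  have hgh : (g : Matrix (Fin 2) (Fin 2) (ZMod p)) * h = 1 := by
    rw [hh]; exact Units.mul_inv g
  have hdet : h.det ≠ 0 := by
    intro h0
    have := congrArg Matrix.det hgh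
    rw [Matrix.det_mul, h0, mul_zero, Matrix.det_one] at this
    exact zero_ne_one this
  let X : P := nf D (h 0 0) (h 1 0) 0
  let Y : P := nf D (h 0 1) (h 1 1) 0
  have hX : D.pi X = ![h 0 0, h 1 0] := pi_nf D _ _ _
  have hY : D.pi Y = ![h 0 1, h 1 1] := pi_nf D _ _ _
  have hc : D.c X Y = h.det := by
    rw [D.c_eq_det, hX, hY, Matrix.det_fin_two]
    simp only [Matrix.cons_val_zero, Matrix.cons_val_one]
    ring
  have hz : X * Y * X⁻¹ * Y⁻¹ ≠ 1 := by
    rw [D.c_spec, hc, Ne, pw_eq_one_iff (D.pow_p _) D.z_ne]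
    exact hdet
  let D' : HData p P :=
    { x0 := X, y0 := Y, z := X * Y * X⁻¹ * Y⁻¹, hz := rfl, pow_p := D.pow_p, z_ne := hz
      center_eq := by
        symm
        apply Subgroup.eq_of_le_of_card_ge
        · rw [Subgroup.zpowers_le]; exact D.comm_mem X Y
        · rw [D.center_eq, Nat.card_zpowers, Nat.card_zpowers, orderOf_eq_prime (D.pow_p _) hz,
            orderOf_eq_prime (D.pow_p _) D.z_ne]
      comm_mem := D.comm_mem
      card_eq := D.card_eq }
  refine ⟨D', fun w => ?_⟩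
  obtain ⟨a, b, k, rfl⟩ := exists_nf D' w
  have hzz : D.pi D'.z = 0 := D.pi_eq_zero_iff.2 (D.comm_mem X Y)
  rw [pi_nf]
  unfold nf
  rw [D.pi_mul, D.pi_mul, D.pi_pw, D.pi_pw, D.pi_pw, hzz, smul_zero, add_zero]
  have e1 : D.pi D'.x0 = Matrix.mulVec h ![1, 0] := by
    change D.pi X = _
    rw [hX]
    ext i; fin_cases i <;> simp [Matrix.mulVec, dotProduct, Fin.sum_univ_two]
  have e2 : D.pi D'.y0 = Matrix.mulVec h ![0, 1] := by
    change D.pi Y = _
    rw [hY]
    ext i; fin_cases i <;> simp [Matrix.mulVec, dotProduct, Fin.sum_univ_two]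
  rw [e1, e2, ← Matrix.mulVec_smul, ← Matrix.mulVec_smul, ← Matrix.mulVec_add, Matrix.mulVec_mulVec, hgh,
    Matrix.one_mulVec]
  ext i; fin_cases i <;> simp

/-- `rep` is surjective. -/
theorem rep_surjective (D : HData p P) : Function.Surjective D.rep := by
  intro g
  obtain ⟨D', hD'⟩ := exists_change D g
  obtain ⟨e, he, -⟩ := exists_equiv D' D
  refine ⟨e, ?_⟩
  apply Units.ext
  apply D.mulVec_ext
  intro w
  rw [D.rep_mulVec, he, hD']

/-- Two homomorphisms agreeing on `x0` and `y0` are equal. -/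
theorem hom_ext_gen (D : HData p P) {Q : Type*} [Group Q] {f g : P →* Q} (hx : f D.x0 = g D.x0)
    (hy : f D.y0 = g D.y0) : f = g := by
  have hz : f D.z = g D.z := by
    rw [← D.hz]
    simp only [map_mul, map_inv, hx, hy]
  ext w
  obtain ⟨a, b, k, rfl⟩ := exists_nf D w
  unfold nf
  rw [map_mul, map_mul, map_mul, map_mul, map_pw, map_pw, map_pw, map_pw, map_pw, map_pw, hx, hy, hz]

/-- Elements with the same `pi` differ by a central element. -/
theorem exists_central_of_pi_eq (D : HData p P) {u v : P} (h : D.pi u = D.pi v) :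
    ∃ k : ZMod p, u = pw D.z k * v := by
  have h1 : D.pi (u * v⁻¹) = 0 := by
    have h2 : D.pi (u * v⁻¹ * v) = D.pi (u * v⁻¹) + D.pi v := D.pi_mul _ _
    rw [inv_mul_cancel_right, h] at h2
    exact right_eq_add.1 h2
  rw [D.pi_eq_zero_iff, D.center_eq] at h1
  obtain ⟨k, hk⟩ := exists_pw_of_mem_zpowers (D.pow_p _) h1
  exact ⟨k, by rw [← hk, inv_mul_cancel_right]⟩

/-- The kernel of `rep` consists of inner automorphisms. -/
theorem inner_of_rep_eq_one (D : HData p P) {α : MulAut P} (h : D.rep α = 1) :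
    ∃ u : P, α = MulAut.conj u := by
  have hpi : ∀ w, D.pi (α w) = D.pi w := by
    intro w
    rw [← D.rep_mulVec, h, Units.val_one, Matrix.one_mulVec]
  obtain ⟨i, hi⟩ := exists_central_of_pi_eq D (hpi D.x0)
  obtain ⟨j, hj⟩ := exists_central_of_pi_eq D (hpi D.y0)
  refine ⟨nf D j (-i) 0, ?_⟩
  have key : α.toMonoidHom = (MulAut.conj (nf D j (-i) 0)).toMonoidHom := by
    apply hom_ext_gen D
    · change α D.x0 = MulAut.conj (nf D j (-i) 0) D.x0
      rw [hi, MulAut.conj_apply, D.conj_eq, D.c_eq_det, pi_nf, D.pi_x0]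
      simp
    · change α D.y0 = MulAut.conj (nf D j (-i) 0) D.y0
      rw [hj, MulAut.conj_apply, D.conj_eq, D.c_eq_det, pi_nf, D.pi_y0]
      simp
  ext w
  exact DFunLike.congr_fun key w

/-- Two automorphisms with the same image under `rep` differ by an inner automorphism. -/
theorem inner_of_rep_eq (D : HData p P) {α β : MulAut P} (h : D.rep α = D.rep β) :
    ∃ u : P, α = MulAut.conj u * β := by
  obtain ⟨u, hu⟩ := inner_of_rep_eq_one D (α := α * β⁻¹) (by rw [map_mul, map_inv, h, mul_inv_cancel])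
  exact ⟨u, by rw [← hu, inv_mul_cancel_right]⟩

end Cfsg.Agent.H773.Rv
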