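import Cfsg.Agent.H773.RvDefs
import Cfsg.Agent.H773.RvHeis
import Cfsg.Agent.H773.RvBas

/-!
# The subgroups of order `p^2` of an extraspecial group of order `p^3` and exponent `p` (helper773)
-/

set_option autoImplicit false

namespace Cfsg.Agent.H773.Rv

open Cfsg Cfsg.FusionSystem Subgroup Cfsg.Agent.H275.Heis Cfsg.Agent.H802

variable {Ω : Type*} [Group Ω] {S : Subgroup Ω} {p : ℕ} [hp : Fact p.Prime] {D : HData p S}

theorem inZ_iff (D : HData p S) (s : S) : InZ S (s : Ω) ↔ D.pi s = 0 := by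
  rw [D.pi_eq_zero_iff, Subgroup.mem_center_iff]
  constructor
  · intro h g
    exact Subtype.ext (h g g.2)
  · intro h g hg
    exact congrArg Subtype.val (h ⟨g, hg⟩)

omit hp in
theorem coe_pw {G : Type*} [Group G] {H : Subgroup G} (x : H) (a : ZMod p) : ((pw x a : H) : G) = pw (x : G) a :=
  Subgroup.coe_pow _ _ _

/-- `V` is the subgroup `⟨v⟩ Z(S)`, where `v` is not central. -/
structure IsLn (D : HData p S) (v : S) (V : Subgroup Ω) : Prop where
  ne : D.pi v ≠ 0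
  mem : ∀ x : Ω, x ∈ V ↔ ∃ a k : ZMod p, x = ((pw v a * pw D.z k : S) : Ω)

theorem isLn_span {v : S} (hv : D.pi v ≠ 0) : IsLn D v (lineOf D (Submodule.span (ZMod p) {D.pi v})) := by
  refine ⟨hv, fun x => ?_⟩
  rw [mem_lineOf]
  constructor
  · rintro ⟨hx, hxl⟩
    obtain ⟨a, ha⟩ := Submodule.mem_span_singleton.1 hxl
    rw [← D.pi_pw] at ha
    obtain ⟨k, hk⟩ := exists_central_of_pi_eq D ha.symm
    refine ⟨a, k, ?_⟩
    have h1 : pw D.z k * pw v a = pw v a * pw D.z k := pw_commute (D.commute_z v) _ _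
    rw [h1] at hk
    exact congrArg Subtype.val hk
  · rintro ⟨a, k, rfl⟩
    refine ⟨(pw v a * pw D.z k : S).2, ?_⟩
    have h1 : D.pi (pw v a * pw D.z k) = a • D.pi v := by
      rw [D.pi_mul, D.pi_pw, D.pi_pw, D.pi_eq_zero_iff.2 D.z_mem, smul_zero, add_zero]
    rw [show (⟨((pw v a * pw D.z k : S) : Ω), (pw v a * pw D.z k : S).2⟩ : S) = pw v a * pw D.z k from rfl, h1]
    exact Submodule.smul_mem _ _ (Submodule.mem_span_singleton_self _)

theorem exists_pi (D : HData p S) (w : Fin 2 → ZMod p) : ∃ s : S, D.pi s = w := ⟨_, D.pi_lift w⟩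

theorem exists_isLn {l : Submodule (ZMod p) (Fin 2 → ZMod p)} (hl : Module.finrank (ZMod p) l = 1) :
    ∃ v : S, l = Submodule.span (ZMod p) {D.pi v} ∧ IsLn D v (lineOf D l) := by
  obtain ⟨⟨w, hw⟩, hw0, hspan⟩ := finrank_eq_one_iff'.1 hl
  obtain ⟨v, rfl⟩ := exists_pi D w
  have hl' : l = Submodule.span (ZMod p) {D.pi v} := by
    apply le_antisymm
    · intro x hx
      obtain ⟨c, hc⟩ := hspan ⟨x, hx⟩
      rw [Submodule.mem_span_singleton]
      exact ⟨c, congrArg Subtype.val hc⟩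
    · rw [Submodule.span_singleton_le_iff_mem]
      exact hw
  have hv : D.pi v ≠ 0 := fun h => hw0 (Subtype.ext h)
  refine ⟨v, hl', ?_⟩
  rw [hl']
  exact isLn_span hv

theorem finrank_span_pi {v : S} (hv : D.pi v ≠ 0) :
    Module.finrank (ZMod p) (Submodule.span (ZMod p) {D.pi v}) = 1 := finrank_span_singleton hv

namespace IsLn

variable {v : S} {V : Subgroup Ω} (h : IsLn D v V)
include h

theorem le : V ≤ S := by
  intro x hx
  obtain ⟨a, k, rfl⟩ := (h.mem x).1 hx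
  exact (pw v a * pw D.z k : S).2

theorem vmem : (v : Ω) ∈ V := (h.mem _).2 ⟨1, 0, by rw [pw_one, pw_zero, mul_one]⟩

theorem zmem : (D.z : Ω) ∈ V := (h.mem _).2 ⟨0, 1, by rw [pw_one, pw_zero, one_mul]⟩

/-- The basis `v`, `z` of `V`. -/
theorem bas : Bas p (⟨v, h.vmem⟩ : V) ⟨D.z, h.zmem⟩ where
  comm := Subtype.ext (by
    have h1 : v * D.z = D.z * v := (D.commute_z v).symm.eq
    have := congrArg Subtype.val h1
    simpa using this)
  vp := Subtype.ext (by
    have := congrArg Subtype.val (D.pow_p v)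
    simpa using this)
  zp := Subtype.ext (by
    have := congrArg Subtype.val (D.pow_p D.z)
    simpa using this)
  ex := fun x => by
    obtain ⟨a, k, hx⟩ := (h.mem x).1 x.2
    refine ⟨a, k, Subtype.ext ?_⟩
    rw [hx, Subgroup.coe_mul, Subgroup.coe_mul, coe_pw, coe_pw, coe_pw, coe_pw]
  uni := fun a k hak => by
    have h1 : pw v a * pw D.z k = 1 := by
      apply Subtype.ext
      have := congrArg Subtype.val hak
      rw [Subgroup.coe_mul, coe_pw, coe_pw] at this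
      rw [Subgroup.coe_mul, coe_pw, coe_pw]
      exact this
    have h2 := congrArg D.pi h1
    rw [D.pi_mul, D.pi_pw, D.pi_pw, D.pi_eq_zero_iff.2 D.z_mem, smul_zero, add_zero, D.pi_one] at h2
    have ha : a = 0 := (smul_eq_zero.1 h2).resolve_right h.ne
    subst ha
    rw [pw_zero, one_mul, pw_eq_one_iff (D.pow_p _) D.z_ne] at h1
    exact ⟨rfl, h1⟩

/-- The element of `V` with given coordinates. -/
theorem coe_f (w : Fin 2 → ZMod p) :
    ((Bas.f (⟨v, h.vmem⟩ : V) ⟨D.z, h.zmem⟩ w : V) : Ω) = ((pw v (w 0) * pw D.z (w 1) : S) : Ω) := by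
  unfold Bas.f
  rw [Subgroup.coe_mul, Subgroup.coe_mul, coe_pw, coe_pw, coe_pw, coe_pw]

theorem coe_eq (y : V) :
    (y : Ω) = ((pw v (h.bas.co y 0) * pw D.z (h.bas.co y 1) : S) : Ω) := by
  rw [← h.coe_f, h.bas.f_co]

/-- The coordinates of an element of `V`. -/
theorem pi_eq (y : V) : D.pi ⟨y, h.le y.2⟩ = h.bas.co y 0 • D.pi v := by
  have h1 : (⟨y, h.le y.2⟩ : S) = pw v (h.bas.co y 0) * pw D.z (h.bas.co y 1) := Subtype.ext (h.coe_eq y)
  rw [h1, D.pi_mul, D.pi_pw, D.pi_pw, D.pi_eq_zero_iff.2 D.z_mem, smul_zero, add_zero]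

theorem inZ_iff' (y : V) : InZ S (y : Ω) ↔ h.bas.co y 0 = 0 := by
  have h1 := inZ_iff D ⟨y, h.le y.2⟩
  rw [h.pi_eq] at h1
  rw [h1, smul_eq_zero]
  exact or_iff_left h.ne

theorem z_le {x : Ω} (hx : x ∈ S) (hxz : InZ S x) : x ∈ V := by
  have h1 : D.pi ⟨x, hx⟩ = 0 := (inZ_iff D ⟨x, hx⟩).1 hxz
  rw [D.pi_eq_zero_iff, D.center_eq] at h1
  obtain ⟨k, hk⟩ := exists_pw_of_mem_zpowers (D.pow_p _) h1
  exact (h.mem x).2 ⟨0, k, by rw [pw_zero, one_mul, ← hk]⟩

/-- Conjugation by elements of `S` on `V`. -/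
theorem conj_eq {g x : Ω} (hg : g ∈ S) (hx : x ∈ V) :
    g * x * g⁻¹ = ((pw D.z (D.c ⟨g, hg⟩ ⟨x, h.le hx⟩) : S) : Ω) * x := by
  have h1 := D.conj_eq ⟨g, hg⟩ ⟨x, h.le hx⟩
  exact congrArg Subtype.val h1

theorem conj_mem {g x : Ω} (hg : g ∈ S) (hx : x ∈ V) : g * x * g⁻¹ ∈ V := by
  rw [h.conj_eq hg hx]
  exact mul_mem ((h.mem _).2 ⟨0, _, by rw [pw_zero, one_mul]⟩) hx

theorem mem_normalizer {g : Ω} (hg : g ∈ S) : g ∈ normalizer (V : Set Ω) := by
  rw [Subgroup.mem_normalizer_iff]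
  intro x
  constructor
  · exact fun hx => h.conj_mem hg hx
  · intro hx
    have h1 := h.conj_mem (inv_mem hg) hx
    have h2 : g⁻¹ * (g * x * g⁻¹) * g⁻¹⁻¹ = x := by group
    rwa [h2] at h1

theorem normalizerIn_eq : normalizerIn S V = S :=
  le_antisymm inf_le_left (fun _ hg => mem_inf.2 ⟨hg, h.mem_normalizer hg⟩)

/-- Values of the commutator pairing with `v`. -/
theorem exists_c (k : ZMod p) : ∃ g : S, D.c g v = k := by
  by_cases h0 : D.pi v 1 = 0
  · have h1 : D.pi v 0 ≠ 0 := by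
      intro h1
      apply h.ne
      ext i
      fin_cases i
      · exact h1
      · exact h0
    obtain ⟨g, hg⟩ := exists_pi D ![0, -(k / D.pi v 0)]
    refine ⟨g, ?_⟩
    rw [D.c_eq_det, hg, h0]
    simp
    field_simp
  · obtain ⟨g, hg⟩ := exists_pi D ![k / D.pi v 1, 0]
    refine ⟨g, ?_⟩
    rw [D.c_eq_det, hg]
    simp
    field_simp

theorem c_eq (g : S) (y : V) : D.c g ⟨y, h.le y.2⟩ = h.bas.co y 0 * D.c g v := by
  have h1 : (⟨y, h.le y.2⟩ : S) = pw v (h.bas.co y 0) * pw D.z (h.bas.co y 1) := Subtype.ext (h.coe_eq y)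
  rw [h1, D.c_mul_right, D.c_pw_right, D.c_pw_right, D.c_swap D.z g, D.c_z_left]
  ring

/-- `V` is its own centralizer in `S`. -/
theorem centralizerIn_le : centralizerIn S V ≤ V := by
  rintro g ⟨hg, hgc⟩
  have h1 : Commute (⟨g, hg⟩ : S) v := by
    have := mem_centralizer_iff.1 hgc v h.vmem
    exact Subtype.ext this.symm
  rw [← D.c_eq_zero_iff] at h1
  obtain ⟨a, ha⟩ : ∃ a : ZMod p, D.pi ⟨g, hg⟩ = a • D.pi v := by
    rw [D.c_eq_det] at h1
    by_cases h0 : D.pi v 0 = 0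
    · have h2 : D.pi v 1 ≠ 0 := by
        intro h2
        apply h.ne
        ext i
        fin_cases i
        · exact h0
        · exact h2
      refine ⟨D.pi ⟨g, hg⟩ 1 / D.pi v 1, ?_⟩
      rw [h0, mul_zero, sub_zero] at h1
      have h3 : D.pi ⟨g, hg⟩ 0 = 0 := (mul_eq_zero.1 h1).resolve_right h2
      ext i
      fin_cases i
      · simp [h0, h3]
      · simp
        field_simp
    · refine ⟨D.pi ⟨g, hg⟩ 0 / D.pi v 0, ?_⟩
      ext i
      fin_cases i
      · simp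
        field_simp
      · simp
        field_simp
        linear_combination -h1
  rw [← D.pi_pw] at ha
  obtain ⟨k, hk⟩ := exists_central_of_pi_eq D ha
  refine (h.mem g).2 ⟨a, k, ?_⟩
  rw [(pw_commute (D.commute_z v) k a).eq] at hk
  exact congrArg Subtype.val hk

theorem commute {x y : Ω} (hx : x ∈ V) (hy : y ∈ V) : x * y = y * x := by
  have h1 : (⟨x, hx⟩ : V) * ⟨y, hy⟩ = ⟨y, hy⟩ * ⟨x, hx⟩ := by
    apply h.bas.co_inj
    rw [h.bas.co_mul, h.bas.co_mul, add_comm]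
  exact congrArg Subtype.val h1

end IsLn

end Cfsg.Agent.H773.Rv
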