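import Cfsg.Agent.H773.RvCrit
import Cfsg.Agent.H771.RVSmall
import Cfsg.Agent.H771.RVTarget
import Cfsg.Agent.J2Type.ExtCube

/-!
# Fusion systems over extraspecial groups of order `p^3` and exponent `p`: assembly (helper773)
-/

set_option autoImplicit false

universe u v

namespace Cfsg.Agent.H773.Rv

open Cfsg Cfsg.FusionSystem Subgroup Cfsg.Agent.H275.Heis Cfsg.Agent.H802 Cfsg.Agent.H781
open Cfsg.Agent.H775.Cube (Conf act)

/-- Coordinates of a nonabelian group of order `p^3` and exponent `p`. -/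
theorem exists_hData_of_ne {T : Type*} [Group T] {p : ℕ} [hp : Fact p.Prime] (hc : Nat.card T = p ^ 3)
    (he : ∀ x : T, x ^ p = 1) (hne : ∃ x y : T, x * y ≠ y * x) : Nonempty (HData p T) := by
  have hfin : Finite T := Nat.finite_of_card_ne_zero (by rw [hc]; exact (pow_pos hp.out.pos 3).ne')
  refine exists_hData (J2Type.ExtCube.isExtraspecial_of_card_cube hc hne) hc ?_
  have h1 : Monoid.exponent T ∣ p := Monoid.exponent_dvd_of_forall_pow_eq_one he
  rcases (Nat.dvd_prime hp.out).1 h1 with h | h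
  · exfalso
    rw [Monoid.exp_eq_one_iff] at h
    obtain ⟨x, y, hxy⟩ := hne
    exact hxy (Subsingleton.elim _ _)
  · exact h

theorem Three.exists_ne {G : Type*} [Group G] {T : Subgroup G} (h : Three T) :
    ∃ x y : T, x * y ≠ y * x := by
  obtain ⟨a, ha, b, hb, c, hc, hab, -⟩ := h
  exact ⟨⟨a, ha⟩, ⟨b, hb⟩, fun h => hab (congrArg Subtype.val h)⟩

variable {Ω : Type u} [Group Ω] {S : Subgroup Ω} {p : ℕ} [hp : Fact p.Prime] {F : FusionSystem S}

/-- At least three radical lines, `p = 5`, `13`. -/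
theorem realizable_three [Finite S] (hS : IsPGroup p S) (hF : F.IsSaturated p) (D : HData p S)
    (hT : TargetThree p)
    (hconj : ∀ (W W' : Subgroup (GL (Fin 2) (ZMod p))) (L L' : Set (Submodule (ZMod p) (Fin 2 → ZMod p))),
      Conf W L → Conf W' L' → 3 ≤ L.ncard → 3 ≤ L'.ncard →
        ∃ g : GL (Fin 2) (ZMod p), W' = W.map (MulAut.conj g).toMonoidHom ∧ L' = act g '' L)
    (h3 : 3 ≤ (LL F D).ncard) : F.IsRealizable p := by
  obtain ⟨G, _, _, T, hc, he, hTh⟩ := hT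
  obtain ⟨D'⟩ := exists_hData_of_ne (T := (T : Subgroup G)) hc
    (fun x => Subtype.ext (he x x.2)) hTh.exists_ne
  have hsat : (groupFusionSystem (T : Subgroup G)).IsSaturated p := groupFusionSystem_isSaturated T
  obtain ⟨g, hW, hL⟩ := hconj _ _ _ _ (conf hS hF D) (conf T.2 hsat D') h3 (three_le T D' hTh)
  exact realizable_of_conj hS hF D T.2 D' (groupFusionSystem_isRealizedBy (T : Subgroup G)) T
    (range_subtype _).symm g hW hL

/-- At least three radical lines, `p = 3`. -/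
theorem realizable_three_card [Finite S] (hS : IsPGroup p S) (hF : F.IsSaturated p) (D : HData p S) {n : ℕ}
    (hT : ∃ (G : Type) (_ : Group G) (_ : Finite G) (T : Sylow p G),
      Nat.card T = p ^ 3 ∧ (∀ x ∈ (T : Subgroup G), x ^ p = 1) ∧ Three (T : Subgroup G) ∧
        Nat.card (normalizer ((T : Subgroup G) : Set G)) =
          p ^ 2 * n * Nat.card (centralizer ((T : Subgroup G) : Set G)))
    (hconj : ∀ (W W' : Subgroup (GL (Fin 2) (ZMod p))) (L L' : Set (Submodule (ZMod p) (Fin 2 → ZMod p))),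
      Conf W L → Conf W' L' → 3 ≤ L.ncard → 3 ≤ L'.ncard → Nat.card W = Nat.card W' →
        ∃ g : GL (Fin 2) (ZMod p), W' = W.map (MulAut.conj g).toMonoidHom ∧ L' = act g '' L)
    (h3 : 3 ≤ (LL F D).ncard) (hn : Nat.card (W F D) = n) : F.IsRealizable p := by
  obtain ⟨G, _, _, T, hc, he, hTh, hNC⟩ := hT
  obtain ⟨D'⟩ := exists_hData_of_ne (T := (T : Subgroup G)) hc
    (fun x => Subtype.ext (he x x.2)) hTh.exists_ne
  have hsat : (groupFusionSystem (T : Subgroup G)).IsSaturated p := groupFusionSystem_isSaturated T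
  obtain ⟨g, hW, hL⟩ := hconj _ _ _ _ (conf hS hF D) (conf T.2 hsat D') h3 (three_le T D' hTh)
    (by rw [hn, card_W_group T D' hNC])
  exact realizable_of_conj hS hF D T.2 D' (groupFusionSystem_isRealizedBy (T : Subgroup G)) T
    (range_subtype _).symm g hW hL

/-- The hypotheses of `TargetTwo`. -/
def MonoCond (W : Subgroup (GL (Fin 2) (ZMod p))) : Prop :=
  (∀ a : (ZMod p)ˣ, ∃ w ∈ W, (w : Matrix (Fin 2) (Fin 2) (ZMod p)) = !![((a⁻¹ : (ZMod p)ˣ) : ZMod p), 0; 0, (a : ZMod p) ^ 2]) ∧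
  (∀ a : (ZMod p)ˣ, ∃ w ∈ W, (w : Matrix (Fin 2) (Fin 2) (ZMod p)) = !![(a : ZMod p) ^ 2, 0; 0, ((a⁻¹ : (ZMod p)ˣ) : ZMod p)]) ∧
  (∀ w ∈ W, ∃ a b : ZMod p, (w : Matrix (Fin 2) (Fin 2) (ZMod p)) = !![a, 0; 0, b] ∨
    (w : Matrix (Fin 2) (Fin 2) (ZMod p)) = !![0, a; b, 0])

/-- Exactly two radical lines. -/
theorem realizable_two [Finite S] (hS : IsPGroup p S) (hF : F.IsSaturated p) (D : HData p S) (hp2 : p ≠ 2)
    (htwo : ∀ (W : Subgroup (GL (Fin 2) (ZMod p))) (L : Set (Submodule (ZMod p) (Fin 2 → ZMod p))),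
      Conf W L → L.ncard = 2 → ∃ g : GL (Fin 2) (ZMod p),
        act g '' L = {Submodule.span (ZMod p) {![1, 0]}, Submodule.span (ZMod p) {![0, 1]}} ∧
          MonoCond (W.map (MulAut.conj g).toMonoidHom))
    (h2 : (LL F D).ncard = 2) : F.IsRealizable p := by
  obtain ⟨g, hL, hM1, hM2, hM3⟩ := htwo _ _ (conf hS hF D) h2
  obtain ⟨G, _, _, T, D', hW', hL'⟩ := H771.RV.targetTwo hp2 _ hM1 hM2 hM3
  refine realizable_of_conj hS hF D T.2 D' (groupFusionSystem_isRealizedBy (T : Subgroup G)) T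
    (range_subtype _).symm g ?_ ?_
  · rw [W_group, hW']
  · rw [LL_group, hL', hL]

end Cfsg.Agent.H773.Rv
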