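import Mathlib

/-!
# Subgroups of `GL₂` containing a full group of lower unitriangular matrices (helper773)
-/

set_option autoImplicit false

namespace Cfsg.Agent.H773.Rv

open scoped MatrixGroups

variable {K : Type*} [Field K]

/-- `X` is the matrix of an element of `A`. -/
def In (A : Subgroup (GL (Fin 2) K)) (X : Matrix (Fin 2) (Fin 2) K) : Prop :=
  ∃ M ∈ A, (M : Matrix (Fin 2) (Fin 2) K) = X

theorem In.mul {A : Subgroup (GL (Fin 2) K)} {X Y : Matrix (Fin 2) (Fin 2) K} (hX : In A X) (hY : In A Y) :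
    In A (X * Y) := by
  obtain ⟨M, hM, rfl⟩ := hX
  obtain ⟨N, hN, rfl⟩ := hY
  exact ⟨M * N, mul_mem hM hN, rfl⟩

theorem In.inv {A : Subgroup (GL (Fin 2) K)} {X Y : Matrix (Fin 2) (Fin 2) K} (hX : In A X) (h : X * Y = 1) :
    In A Y := by
  obtain ⟨M, hM, rfl⟩ := hX
  refine ⟨M⁻¹, inv_mem hM, ?_⟩
  have h1 : ((M⁻¹ : GL (Fin 2) K) : Matrix (Fin 2) (Fin 2) K) * (M : Matrix (Fin 2) (Fin 2) K) = 1 := Units.inv_mul M
  calc ((M⁻¹ : GL (Fin 2) K) : Matrix (Fin 2) (Fin 2) K)
      = ((M⁻¹ : GL (Fin 2) K) : Matrix (Fin 2) (Fin 2) K) * ((M : Matrix (Fin 2) (Fin 2) K) * Y) := by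
        rw [h, mul_one]
    _ = Y := by rw [← mul_assoc, h1, one_mul]

theorem In.mem {A : Subgroup (GL (Fin 2) K)} {N : GL (Fin 2) K} (h : In A (N : Matrix (Fin 2) (Fin 2) K)) :
    N ∈ A := by
  obtain ⟨M, hM, hMN⟩ := h
  have : M = N := Units.ext hMN
  rwa [← this]

theorem mul22 (a b c d a' b' c' d' : K) : !![a, b; c, d] * !![a', b'; c', d'] =
    !![a * a' + b * c', a * b' + b * d'; c * a' + d * c', c * b' + d * d'] := by
  ext i j
  fin_cases i <;> fin_cases j <;> simp [Matrix.mul_apply, Fin.sum_univ_two]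

omit [Field K] in
theorem eta22 (M : Matrix (Fin 2) (Fin 2) K) : M = !![M 0 0, M 0 1; M 1 0, M 1 1] := by
  ext i j
  fin_cases i <;> fin_cases j <;> rfl

theorem one22 : (1 : Matrix (Fin 2) (Fin 2) K) = !![1, 0; 0, 1] := Matrix.one_fin_two

/-- A subgroup of `GL₂` containing all lower unitriangular matrices and a matrix which is not lower triangular
contains `SL₂`. -/
theorem sl_le {A : Subgroup (GL (Fin 2) K)} (hL : ∀ k : K, In A !![1, 0; k, 1]) {M : Matrix (Fin 2) (Fin 2) K}
    (hM : In A M) (h01 : M 0 1 ≠ 0) {N : Matrix (Fin 2) (Fin 2) K} (hN : N.det = 1) : In A N := by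
  obtain ⟨a, b, c, d, rfl⟩ : ∃ a b c d, M = !![a, b; c, d] := ⟨_, _, _, _, eta22 M⟩
  have hb : b ≠ 0 := h01
  have hdet : a * d - b * c ≠ 0 := by
    obtain ⟨M', -, hM'⟩ := hM
    have h1 : (M' : Matrix (Fin 2) (Fin 2) K).det ≠ 0 := (Matrix.isUnits_det_units M').ne_zero
    rw [hM', Matrix.det_fin_two_of] at h1
    exact h1
  set c' := c - a * d / b with hc'
  have hc'0 : c' ≠ 0 := by
    intro h
    apply hdet
    have : c' * b = 0 := by rw [h, zero_mul]
    rw [hc', sub_mul, div_mul_cancel₀ _ hb] at this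
    linear_combination -this
  have hw : In A !![0, b; c', 0] := by
    have h1 := ((hL (-(d / b))).mul hM).mul (hL (-(a / b)))
    rw [mul22, mul22] at h1
    convert h1 using 1
    ext i j
    fin_cases i <;> fin_cases j <;> simp [hc'] <;> field_simp <;> ring
  have hw' : In A !![0, 1 / c'; 1 / b, 0] := by
    refine hw.inv ?_
    rw [mul22, one22]
    ext i j
    fin_cases i <;> fin_cases j <;> simp [hb, hc'0]
  have hU : ∀ t : K, In A !![1, t; 0, 1] := by
    intro t
    have h1 := (hw.mul (hL (t * c' / b))).mul hw'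
    rw [mul22, mul22] at h1
    convert h1 using 1
    ext i j
    fin_cases i <;> fin_cases j <;> simp [hb, hc'0] <;> field_simp
  have key : ∀ a b c d : K, a * d - b * c = 1 → b ≠ 0 → In A !![a, b; c, d] := by
    intro a b c d h hb
    have h1 := ((hL ((d - 1) / b)).mul (hU b)).mul (hL ((a - 1) / b))
    rw [mul22, mul22] at h1
    convert h1 using 1
    ext i j
    fin_cases i <;> fin_cases j <;> simp <;> field_simp <;> first | ring1 | linear_combination -h
  obtain ⟨a, b, c, d, rfl⟩ : ∃ a b c d, N = !![a, b; c, d] := ⟨_, _, _, _, eta22 N⟩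
  rw [Matrix.det_fin_two_of] at hN
  by_cases hb0 : b = 0
  · subst hb0
    have ha : a ≠ 0 := by
      rintro rfl
      simp at hN
    have h1 : In A !![a, a; c, c + d] := key a a c (c + d) (by linear_combination hN) ha
    have h2 := h1.mul (hU (-1))
    rw [mul22] at h2
    convert h2 using 1
    ext i j
    fin_cases i <;> fin_cases j <;> simp
  · exact key a b c d hN hb0

end Cfsg.Agent.H773.Rv
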