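import Cfsg.Agent.H773.RvAut
import Cfsg.Agent.H773.PredSys
import Cfsg.Agent.H781.Model

/-!
# Radical subgroups of order `p^2` and `Aut_F(S)` (helper773)
-/

set_option autoImplicit false

namespace Cfsg.Agent.H773.Rv

open Cfsg Cfsg.FusionSystem Subgroup Cfsg.Agent.H275.Heis Cfsg.Agent.H802

variable {Ω : Type*} [Group Ω] {S : Subgroup Ω} {p : ℕ} [hp : Fact p.Prime] {D : HData p S}
  {F F' : FusionSystem S}

/-- The torus elements of a radical line. -/
theorem IsLn.exists_diag [Finite S] (hS : IsPGroup p S) (hF : F.IsSaturated p) {v : S} {V : Subgroup Ω}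
    (h : IsLn D v V) (hR : Rad F V) (a : (ZMod p)ˣ) :
    ∃ w ∈ W F D, Matrix.mulVec (w : Matrix (Fin 2) (Fin 2) (ZMod p)) (D.pi v) = ((a⁻¹ : (ZMod p)ˣ) : ZMod p) • D.pi v ∧
      (w : Matrix (Fin 2) (Fin 2) (ZMod p)).det = a := by
  obtain ⟨_, ⟨α, hα, rfl⟩, hN⟩ := h.sl_mem (F := F) hR (N := !![((a⁻¹ : (ZMod p)ˣ) : ZMod p), 0; 0, (a : ZMod p)])
    (by rw [Matrix.det_fin_two_of, mul_zero, sub_zero, ← Units.val_mul, inv_mul_cancel, Units.val_one])
  have h0 : (h.bas.ro α : Matrix (Fin 2) (Fin 2) (ZMod p)) 0 1 = 0 := by rw [hN]; rfl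
  obtain ⟨ψ, hψ, hψe⟩ := h.exists_ext hS hF hα h0
  obtain ⟨h1, h2⟩ := h.rep_ext hψe h0
  refine ⟨D.rep ψ, ⟨ψ, hψ, rfl⟩, ?_, ?_⟩
  · rw [h1, hN]; rfl
  · rw [h2, hN]; rfl

/-- `Inn(S) ≤ Aut_F(S)`. -/
theorem conj_mem_autGroup (F : FusionSystem S) (u : S) : MulAut.conj u ∈ F.autGroup S := by
  apply autInducedBy_le_autGroup F le_rfl
  rw [mem_autInducedBy_iff]
  exact ⟨u, u.2, fun x => rfl⟩

omit hp in
/-- `S` is fully automized. -/
theorem fullyAutomized_top [Finite S] (hF : F.IsSaturated p) : F.IsFullyAutomized p S := by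
  obtain ⟨Q, hQ, hQa, -⟩ := hF S le_rfl
  have h1 : Q = S := eq_of_le_card_eq (isConj_le_right hQ) (isConj_card_eq hQ).symm
  rwa [h1] at hQa

/-- Membership in `Aut_F(S)` is a condition on the image in `GL₂(p)`. -/
theorem mem_autGroup_iff_rep (F : FusionSystem S) (D : HData p S) {α : MulAut S} :
    α ∈ F.autGroup S ↔ D.rep α ∈ W F D := by
  constructor
  · exact fun h => ⟨α, h, rfl⟩
  · rintro ⟨β, hβ, hβα⟩
    obtain ⟨u, rfl⟩ := inner_of_rep_eq D hβα.symm
    exact mul_mem (conj_mem_autGroup F u) hβ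

/-- The kernel of `rep` on `Aut_F(S)`. -/
theorem card_inn (D : HData p S) : Nat.card (MulAut.conj : S →* MulAut S).range = p ^ 2 := by
  have hfin : Finite S := Nat.finite_of_card_ne_zero (by rw [D.card_eq]; exact (pow_pos hp.out.pos 3).ne')
  have h1 : (MulAut.conj : S →* MulAut S).ker = Subgroup.center S := by
    ext u
    rw [MonoidHom.mem_ker, Subgroup.mem_center_iff]
    constructor
    · intro h g
      have := congrArg (fun α : MulAut S => α g) h
      simp only [MulAut.conj_apply, MulAut.one_apply] at this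
      exact (mul_inv_eq_iff_eq_mul.1 this).symm
    · intro h
      ext g
      rw [MulAut.conj_apply, ← h g, mul_inv_cancel_right, MulAut.one_apply]
  have h2 := Subgroup.card_mul_index (MulAut.conj : S →* MulAut S).ker
  rw [Subgroup.index_ker, h1, D.card_eq, D.center_eq, Nat.card_zpowers, orderOf_eq_prime (D.pow_p _) D.z_ne] at h2
  have h3 : p * Nat.card (MulAut.conj : S →* MulAut S).range = p * p ^ 2 := by rw [h2]; ring
  exact Nat.eq_of_mul_eq_mul_left hp.out.pos h3

/-- `|Aut_F(S)| = p² |W|`. -/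
theorem card_autGroup_top (F : FusionSystem S) (D : HData p S) :
    Nat.card (F.autGroup S) = p ^ 2 * Nat.card (W F D) := by
  set f : F.autGroup S →* GL (Fin 2) (ZMod p) := D.rep.comp (F.autGroup S).subtype with hf
  have hr : f.range = W F D := by
    rw [hf]
    exact MonoidHom.domRestrict_range (F.autGroup S) D.rep
  have hle : (MulAut.conj : S →* MulAut S).range ≤ F.autGroup S := by
    rintro _ ⟨u, rfl⟩
    exact conj_mem_autGroup F u
  have hk : f.ker = (MulAut.conj : S →* MulAut S).range.subgroupOf (F.autGroup S) := by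
    ext α
    rw [MonoidHom.mem_ker, mem_subgroupOf]
    constructor
    · intro h
      obtain ⟨u, hu⟩ := inner_of_rep_eq_one D h
      exact ⟨u, hu.symm⟩
    · rintro ⟨u, hu⟩
      change D.rep (α : MulAut S) = 1
      rw [← hu, D.rep_conj]
  have h1 := Subgroup.card_mul_index f.ker
  rw [Subgroup.index_ker, hr, hk, Nat.card_congr (subgroupOfEquivOfLe hle).toEquiv, card_inn D] at h1
  exact h1.symm

omit hp in
theorem inn_eq : autInducedBy S S = (MulAut.conj : S →* MulAut S).range := by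
  ext α
  rw [mem_autInducedBy_iff]
  constructor
  · rintro ⟨g, hg, h⟩
    refine ⟨⟨g, hg⟩, ?_⟩
    ext x
    exact (h x).symm
  · rintro ⟨u, rfl⟩
    exact ⟨u, u.2, fun x => rfl⟩

/-- `W` is a `p'`-group. -/
theorem not_dvd_card_W [Finite S] (hF : F.IsSaturated p) (D : HData p S) : ¬ p ∣ Nat.card (W F D) := by
  obtain ⟨-, R, hR⟩ := fullyAutomized_top hF
  have hle : (MulAut.conj : S →* MulAut S).range ≤ F.autGroup S := by
    rintro _ ⟨u, rfl⟩
    exact conj_mem_autGroup F u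
  have h1 := Subgroup.card_mul_index (R : Subgroup (F.autGroup S))
  rw [card_autGroup_top F D] at h1
  have h2 : Nat.card (R : Subgroup (F.autGroup S)) = p ^ 2 := by
    rw [hR, inn_eq, Nat.card_congr (subgroupOfEquivOfLe hle).toEquiv, card_inn D]
  rw [h2] at h1
  have h3 : (R : Subgroup (F.autGroup S)).index = Nat.card (W F D) :=
    Nat.eq_of_mul_eq_mul_left (pow_pos hp.out.pos 2) h1
  rw [← h3]
  exact R.not_dvd_index

/-- Comparison of `Aut_F(V)` and `Aut_{F'}(V)`. -/
theorem IsLn.autGroup_le [Finite S] (hS : IsPGroup p S) (hF : F.IsSaturated p) {v : S} {V : Subgroup Ω}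
    (h : IsLn D v V) (hA : F.autGroup S ≤ F'.autGroup S) (hR : Rad F V → Rad F' V) :
    F.autGroup V ≤ F'.autGroup V := by
  have key : ∀ α ∈ F.autGroup V, (h.bas.ro α : Matrix (Fin 2) (Fin 2) (ZMod p)) 0 1 = 0 → α ∈ F'.autGroup V := by
    intro α hα h0
    obtain ⟨ψ, hψ, hψe⟩ := h.exists_ext hS hF hα h0
    rw [mem_autGroup_iff F' h.le]
    exact aut_restrict_mem le_rfl (hA hψ) h.le (fun x hx => (hψe x hx).symm)
  intro α hα
  by_cases h0 : (h.bas.ro α : Matrix (Fin 2) (Fin 2) (ZMod p)) 0 1 = 0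
  · exact key α hα h0
  · set M : Matrix (Fin 2) (Fin 2) (ZMod p) := (h.bas.ro α : Matrix (Fin 2) (Fin 2) (ZMod p)) with hM
    have hRF : Rad F V := h.rad_iff.2 ⟨_, h.mem_AG'.2 hα, h0⟩
    set N : Matrix (Fin 2) (Fin 2) (ZMod p) := !![0, M 0 1; -(M 0 1)⁻¹, M 1 1] with hN
    have hNd : N.det = 1 := by
      rw [hN, Matrix.det_fin_two_of]
      field_simp
      ring
    obtain ⟨_, ⟨β, hβ, rfl⟩, hβN⟩ := h.sl_mem hRF hNd
    obtain ⟨_, ⟨β', hβ', rfl⟩, hβN'⟩ := h.sl_mem (hR hRF) hNd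
    have hββ : β = β' := h.bas.ro_injective (Units.ext (by rw [hβN, hβN']))
    subst hββ
    have h1 : β⁻¹ * α ∈ F'.autGroup V := by
      refine key _ (mul_mem (inv_mem hβ) hα) ?_
      set X : Matrix (Fin 2) (Fin 2) (ZMod p) := (h.bas.ro (β⁻¹ * α) : Matrix (Fin 2) (Fin 2) (ZMod p)) with hX
      have h2 : N * X = M := by
        have h3 : h.bas.ro β * h.bas.ro (β⁻¹ * α) = h.bas.ro α := by
          rw [← map_mul, mul_inv_cancel_left]
        have := congrArg (fun Y : GL (Fin 2) (ZMod p) => (Y : Matrix (Fin 2) (Fin 2) (ZMod p))) h3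
        simp only [Units.val_mul] at this
        rw [hβN] at this
        exact this
      have e := h2
      rw [eta22 X, hN, mul22] at e
      have e1 := congrFun (congrFun e 0) 1
      have e2 := congrFun (congrFun e 1) 1
      have e1' : 0 * X 0 1 + M 0 1 * X 1 1 = M 0 1 := e1
      have e2' : -(M 0 1)⁻¹ * X 0 1 + M 1 1 * X 1 1 = M 1 1 := e2
      have e3 : X 1 1 = 1 := mul_left_cancel₀ h0 (by linear_combination e1')
      have e4 : (M 0 1)⁻¹ * X 0 1 = 0 := by
        rw [e3] at e2'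
        linear_combination -e2'
      exact (mul_eq_zero.1 e4).resolve_left (inv_ne_zero h0)
    have := mul_mem hβ' h1
    rwa [mul_inv_cancel_left] at this

end Cfsg.Agent.H773.Rv
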