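import Cfsg.Agent.H773.MaxReal
import Cfsg.Agent.H758.Inner
import Cfsg.Agent.H759.FusTransportD
import Cfsg.Agent.H802.FusNormalSub

/-!
# Simple fusion systems: no normal subgroups, no realizations with normal subgroups of index two (helper773)
-/

set_option autoImplicit false

namespace Cfsg.Agent.H773

open Cfsg Cfsg.FusionSystem Subgroup
open Cfsg.Agent.H802

variable {Ω : Type*} [Group Ω] {S : Subgroup Ω} {F : FusionSystem S}

/-- A simple system over a group of order greater than `p` has no nontrivial normal subgroups. -/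
theorem eq_bot_of_isNormal_of_isSimple {p : ℕ} [Fact p.Prime] [Finite S] (hS : IsPGroup p S)
    (hs : F.IsSimple p) (h4 : p < Nat.card S) {Q : Subgroup Ω} (hQ : F.IsNormal Q) : Q = ⊥ := by
  have hF := hs.1
  rcases hs.2.2 Q _ (Cfsg.Agent.H758.inner_isNormalIn hS hF hQ) with h1 | ⟨h1, h2⟩
  · exact h1
  exfalso
  subst h1
  -- a central subgroup of order `p`
  have hnt : Nontrivial Q := by
    rw [← Finite.one_lt_card_iff_nontrivial]
    have := (Fact.out : p.Prime).one_lt
    omega
  obtain ⟨z, hz⟩ : ∃ z : center Q, orderOf z = p := by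
    have h3 : p ∣ Nat.card (center Q) := by
      have h4 : Nontrivial (center Q) := hS.center_nontrivial
      obtain ⟨n, hn⟩ := IsPGroup.iff_card.mp (hS.to_subgroup (center Q))
      have h5 : 1 < Nat.card (center Q) := Finite.one_lt_card
      rw [hn] at h5 ⊢
      refine dvd_pow_self p ?_
      rintro rfl
      norm_num at h5
    exact exists_prime_orderOf_dvd_card' p h3
  have hzc : ∀ s ∈ Q, s * ((z : Q) : Ω) = (z : Q) * s := fun s hs =>
    congrArg Subtype.val (mem_center_iff.1 z.2 ⟨s, hs⟩)
  have hzo : orderOf ((z : Q) : Ω) = p := by rw [orderOf_coe, orderOf_coe, hz]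
  have hZn : F.IsNormal (zpowers ((z : Q) : Ω)) := by
    apply Cfsg.Agent.H759.isNormal_of_abelian hS hF
    · refine ⟨(zpowers_le).2 (z : Q).2, fun R hR φ hφ x => ?_⟩
      rw [← h2, innerFusionSystem_eq] at hφ
      obtain ⟨-, -, g, hg, hgφ⟩ := hφ
      have hx := hR x.2
      rw [hgφ]
      obtain ⟨n, hn⟩ := mem_zpowers_iff.1 hx
      have hc : Commute ((z : Q) : Ω) g := (hzc g hg).symm
      have h3 : g * (x : Ω) * g⁻¹ = x := by
        rw [← hn, ((hc.zpow_left n).eq).symm, mul_inv_cancel_right]
      rw [h3]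
      exact hx
    · rw [eq_bot_iff, commutator_le]
      intro a ha b hb
      rw [mem_bot, commutatorElement_eq_one_iff_mul_comm]
      obtain ⟨n, rfl⟩ := mem_zpowers_iff.1 ha
      obtain ⟨m, rfl⟩ := mem_zpowers_iff.1 hb
      rw [← zpow_add, ← zpow_add, add_comm]
  have hcard : Nat.card (zpowers ((z : Q) : Ω)) = p := by rw [Nat.card_zpowers, hzo]
  rcases hs.2.2 _ _ (Cfsg.Agent.H758.inner_isNormalIn hS hF hZn) with h3 | ⟨h3, -⟩
  · rw [h3, Subgroup.card_bot] at hcard
    exact (Fact.out : p.Prime).one_lt.ne hcard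
  · rw [h3] at hcard
    omega

theorem isNormal_of_isCentral {Q : Subgroup Ω} (hQ : F.IsCentral Q) : F.IsNormal Q := by
  refine ⟨hQ.1, fun P φ hφ => ?_⟩
  obtain ⟨ψ, hψ, h1, h2⟩ := hQ.2 P φ hφ
  refine ⟨ψ, hψ, h1, ?_⟩
  ext y
  constructor
  · rintro ⟨x, hx, rfl⟩
    have h3 : x = Subgroup.inclusion le_sup_right (⟨(x : Ω), hx⟩ : Q) := Subtype.ext rfl
    rw [h3, h2]
    exact hx
  · intro hy
    exact ⟨Subgroup.inclusion le_sup_right (⟨y, hy⟩ : Q), hy, h2 ⟨y, hy⟩⟩

theorem center_eq_bot_of_isSimple {p : ℕ} [Fact p.Prime] [Finite S] (hS : IsPGroup p S)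
    (hs : F.IsSimple p) (h4 : p < Nat.card S) : F.center = ⊥ := by
  rw [eq_bot_iff]
  apply sSup_le
  intro Q hQ
  exact (eq_bot_of_isNormal_of_isSimple hS hs h4 (isNormal_of_isCentral hQ)).le

/-- A simple system over a group of order greater than two is not realized by a group with a normal subgroup of
index two. -/
theorem no_index_two_of_isSimple [Finite S] (hs : F.IsSimple 2) (h4 : 2 < Nat.card S)
    {G : Type*} [Group G] [Finite G] (hr : RealizedIn F G) {M : Subgroup G} (hM : M.Normal)
    (hMi : M.index = 2) : False := by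
  have : Fact (Nat.Prime 2) := ⟨Nat.prime_two⟩
  obtain ⟨ι, hr, T, hT⟩ := hr
  have hfac := Cfsg.Agent.H781.isFactorSystem_of_isRealizedBy hr
  set γ : ι.range →* Ω := S.subtype.comp (MonoidHom.ofInjective hr.1).symm.toMonoidHom with hγ
  have hγi : Function.Injective γ :=
    S.subtype_injective.comp (MonoidHom.ofInjective hr.1).symm.injective
  have hfinR : Finite ι.range := Finite.of_injective _ (Subgroup.subtype_injective _)
  have hnorm : ∀ R : Subgroup G, (T : Subgroup G) = R →
      (fusionSystemOfSubgroup M (R ⊓ M) inf_le_right).IsNormalIn (groupFusionSystem R) 2 := by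
    rintro _ rfl
    exact groupFusionSystem_isNormalIn T M
  have hR := hnorm _ hT
  obtain ⟨C', hC'⟩ := Cfsg.Agent.H759.exists_pull' (hf := Subgroup.subtype_injective ι.range)
    (T₁ := (⊤ : Subgroup ι.range)) (by rw [← MonoidHom.range_eq_map, Subgroup.range_subtype])
    (groupFusionSystem ι.range)
  have hF' := Cfsg.Agent.H759.isPush_of_isFactorSystem_bot hfac (hγ := hγi) hC'
  obtain ⟨E₁, hE₁⟩ := Cfsg.Agent.H759.exists_pull' (hf := Subgroup.subtype_injective ι.range)
    (T₁ := M.comap ι.range.subtype)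
    (by rw [Subgroup.map_comap_eq, Subgroup.range_subtype])
    (fusionSystemOfSubgroup M (ι.range ⊓ M) inf_le_right)
  have hfin : Finite (⊤ : Subgroup ι.range) := Subgroup.topEquiv.toEquiv.finite_iff.2 hfinR
  have hE₁n := (hE₁.isNormalIn_iff hC').1 hR
  obtain ⟨E, hE⟩ := Cfsg.Agent.H759.exists_push hγi E₁
  have hEn := (hE.isNormalIn_iff hF').2 hE₁n
  -- cardinalities
  have hcT : Nat.card ι.range = Nat.card S :=
    (Nat.card_congr (MonoidHom.ofInjective hr.1).toEquiv).symm
  have hTN : ¬ ι.range ≤ M := by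
    rw [← hT]
    intro hle
    have h1 : (T : Subgroup G).index = (T : Subgroup G).relIndex M * M.index :=
      (Subgroup.relIndex_mul_index hle).symm
    exact T.not_dvd_index (by rw [h1, hMi]; exact dvd_mul_left _ _)
  have hindex : (M.comap ι.range.subtype).index = 2 := by
    have h1 : (M.comap ι.range.subtype).index ∣ M.index := by
      rw [Subgroup.index_comap]
      exact Subgroup.relIndex_dvd_index_of_normal M _
    rw [hMi] at h1
    rcases (Nat.dvd_prime Nat.prime_two).1 h1 with h2 | h2
    · exfalso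
      apply hTN
      intro x hx
      rw [Subgroup.index_eq_one] at h2
      have : (⟨x, hx⟩ : ι.range) ∈ M.comap ι.range.subtype := by rw [h2]; trivial
      exact this
    · exact h2
  have hcard := Subgroup.card_mul_index (M.comap ι.range.subtype)
  rw [hindex, hcT] at hcard
  have hcm : Nat.card ((M.comap ι.range.subtype).map γ) = Nat.card (M.comap ι.range.subtype) :=
    Cfsg.Agent.H759.card_map hγi _
  rcases hs.2.2 _ E hEn with h1 | ⟨h1, -⟩
  · rw [h1, Subgroup.card_bot] at hcm
    rw [← hcm] at hcard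
    omega
  · rw [h1] at hcm
    rw [← hcm] at hcard
    omega

end Cfsg.Agent.H773
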